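import Cfsg.Agent.Lib.BenderMax.TwoMaximal
import Cfsg.Agent.Lib.Subnormal
import Cfsg.Prelude.Def_EvenTechniques

/-!
Bender's uniqueness theorem for maximal subgroups `M ⇝ N`.
-/

set_option autoImplicit false
set_option maxHeartbeats 1000000

open Cfsg

namespace CfsgLib.BenderMax

open scoped commutatorElement

variable {G : Type*} [Group G] [Finite G]

/-- `O_r(A)` and the Sylow subgroup of the Fitting subgroup. -/
theorem sylow_fitting_eq {r : ℕ} [Fact r.Prime] (A : Subgroup G) (R : Sylow r ↥(Cfsg.fittingSubgroup ↥A)) :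
    ((R : Subgroup ↥(Cfsg.fittingSubgroup ↥A)).map (Cfsg.fittingSubgroup ↥A).subtype).map A.subtype = OO r A := by
  haveI hnil := CfsgLib.isNilpotent_fittingSubgroup (G := A)
  have hRn : (R : Subgroup ↥(Cfsg.fittingSubgroup ↥A)).Normal :=
    (Group.isNilpotent_of_finite_tfae.out 0 3 rfl rfl).mp hnil r inferInstance R
  rw [CfsgLib.sylow_eq_pCore_of_normal R]
  refine congrArg (Subgroup.map A.subtype) (le_antisymm (CfsgLib.map_pCore_le r _) fun x hx => ?_)
  have hxF := CfsgLib.pCore_le_fittingSubgroup (Fact.out : r.Prime) hx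
  haveI : ((Cfsg.pCore r A).subgroupOf (Cfsg.fittingSubgroup A)).Normal := by infer_instance
  exact ⟨⟨x, hxF⟩, CfsgLib.le_pCore (N := (Cfsg.pCore r A).subgroupOf (Cfsg.fittingSubgroup A))
    ((CfsgLib.isPGroup_pCore r).comap_of_injective _ (Subgroup.subtype_injective _)) hx, rfl⟩

/-- The normalizer in `F*(M)` of a subgroup of `F(M)`. -/
theorem start {M N : Subgroup G} (h : Cfsg.leadsTo M N) :
    ∃ S : Subgroup G, S ≤ GG M ∧ S ≤ N ∧ (S.subgroupOf (GG M)).IsSubnormal ∧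
      GG M ⊓ Subgroup.centralizer (S : Set G) ≤ S ∧ EE M ≤ S ∧ (∃ x ∈ FF M, x ≠ 1) := by
  obtain ⟨Q, hQ, hQF, hQN⟩ := h
  change Q ≤ FF M at hQF
  change GG M ⊓ Subgroup.normalizer (Q : Set G) ≤ N at hQN
  have hFG : FF M ≤ GG M := Subgroup.map_mono CfsgLib.fittingSubgroup_le_generalized
  have hEQ : EE M ≤ Subgroup.normalizer (Q : Set G) := fun e he =>
    Subgroup.centralizer_le_normalizer _ fun x hx => (comm_EE_FF he (hQF hx)).symm
  refine ⟨GG M ⊓ Subgroup.normalizer (Q : Set G), inf_le_left, hQN, ?_, ?_, le_inf (EE_le_GG M) hEQ, ?_⟩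
  · set H := GG M
    set S' := (H ⊓ Subgroup.normalizer (Q : Set G)).subgroupOf H
    set E0 := (EE M).subgroupOf H
    haveI : E0.Normal := ⟨fun x hx g => conj_EE (Subgroup.map_subtype_le _ g.2) hx⟩
    let π := QuotientGroup.mk' E0
    haveI : Group.IsNilpotent (↥H ⧸ E0) := by
      haveI := isNilpotent_FF (A := M)
      refine Group.nilpotent_of_surjective (π.comp (Subgroup.inclusion hFG)) fun q => ?_
      obtain ⟨⟨x, hx⟩, rfl⟩ := QuotientGroup.mk'_surjective E0 q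
      have e0 : GG M = EE M ⊔ FF M := gfit_eq
      have hx' : x ∈ ((EE M ⊔ FF M : Subgroup G) : Set G) := by rw [← e0]; exact hx
      have hn : FF M ≤ Subgroup.normalizer (EE M : Set G) :=
        fun f hf => Subgroup.mem_normalizer_fintype fun e he => conj_EE (FF_le hf) he
      rw [Subgroup.coe_mul_of_right_le_normalizer_left (EE M) (FF M) hn] at hx'
      obtain ⟨e, he, f, hf, rfl⟩ := hx'
      refine ⟨⟨f, hf⟩, QuotientGroup.eq.2 ?_⟩
      show f⁻¹ * (e * f) ∈ EE M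
      have := conj_EE (M.inv_mem (FF_le hf)) he
      rwa [inv_inv, mul_assoc] at this
    have hle : E0 ≤ S' := fun x hx => ⟨x.2, hEQ hx⟩
    have e1 : S' = (S'.map π).comap π := by
      rw [Subgroup.comap_map_eq, QuotientGroup.ker_mk']
      exact (sup_eq_left.2 hle).symm
    rw [e1]
    exact (CfsgLib.isSubnormal_of_nilpotent (S'.map π)).comap π
  · rintro x ⟨hxG, hxC⟩
    refine ⟨hxG, Subgroup.centralizer_le_normalizer _ fun q hq => hxC q ⟨hFG (hQF hq), Subgroup.le_normalizer hq⟩⟩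
  · obtain ⟨x, hx, hx1⟩ := (Subgroup.bot_or_exists_ne_one Q).resolve_left hQ
    exact ⟨x, hQF hx, hx1⟩

/-- The centre of `O_r(M)` lies in every self-centralizing subgroup of `F*(M)`. -/
theorem center_OO (M : Subgroup G) {r : ℕ} (hr : r.Prime) (hd : r ∣ Nat.card (Cfsg.fittingSubgroup M)) :
    ∃ Z : Subgroup G, Z ≠ ⊥ ∧ Z ≤ OO r M ∧ (∀ x ∈ Z, ∀ y ∈ Z, x * y = y * x) ∧
      (∀ a ∈ M, ∀ z ∈ Z, a * z * a⁻¹ ∈ Z) ∧ ∀ z ∈ Z, ∀ w ∈ GG M, z * w = w * z := by
  haveI := Fact.mk hr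
  obtain ⟨hZO, hZN⟩ := center_map_props (Cfsg.pCore r M)
  have hZO' : ((Subgroup.center (Cfsg.pCore r M)).map (Cfsg.pCore r M).subtype).map M.subtype ≤ OO r M :=
    Subgroup.map_mono (Subgroup.map_subtype_le _)
  refine ⟨_, ?_, hZO', fun x hx y hy => hZO x hx y (hZO' hy), hZN, fun z hz w hw => ?_⟩
  · have hOne : Cfsg.pCore r M ≠ ⊥ := fun h => CfsgLib.not_dvd_card_fitting_of_pCore_eq_bot h hd
    rw [Ne, Subgroup.map_eq_bot_iff_of_injective _ M.subtype_injective,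
      Subgroup.map_eq_bot_iff_of_injective _ (Subgroup.subtype_injective _)]
    haveI : Nontrivial (Cfsg.pCore r M) := (Subgroup.nontrivial_iff_ne_bot _).2 hOne
    haveI := (CfsgLib.isPGroup_pCore (G := M) r).center_nontrivial
    exact (Subgroup.nontrivial_iff_ne_bot _).1 inferInstance
  · have e0 : GG M = EE M ⊔ FF M := gfit_eq
    have hle : GG M ≤ Subgroup.centralizer ({z} : Set G) := by
      rw [e0, FF, CfsgLib.fittingSubgroup_eq_iSup_pCore, Subgroup.map_iSup]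
      refine sup_le (fun e he => Subgroup.mem_centralizer_singleton_iff.2 (comm_EE_FF he
        (Subgroup.map_mono (CfsgLib.pCore_le_fittingSubgroup hr) (hZO' hz)))) (iSup_le fun s => ?_)
      rintro _ ⟨y, hy, rfl⟩
      refine Subgroup.mem_centralizer_singleton_iff.2 ?_
      by_cases hsr : (s : ℕ) = r
      · exact (hZO z hz y ⟨y, hsr ▸ hy, rfl⟩).symm
      · haveI := Fact.mk s.2
        obtain ⟨z, hz', rfl⟩ := hZO' hz
        exact congrArg M.subtype (Subgroup.commute_of_normal_of_disjoint _ _ inferInstance inferInstance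
          (IsPGroup.disjoint_of_coprime (CfsgLib.isPGroup_pCore (s : ℕ)) (CfsgLib.isPGroup_pCore r)
            ((Nat.coprime_primes s.2 hr).2 hsr)) y z hy hz')
    exact (Subgroup.mem_centralizer_singleton_iff.1 (hle hw)).symm

/-- The consequences of the lemma on cores for `M ⇝ N`. -/
theorem leadsTo_facts [IsSimpleGroup G] (hna : ¬ IsMulCommutative G) {M N : Subgroup G} (hM : IsCoatom M)
    (h : Cfsg.leadsTo M N) :
    (∀ q, q.Prime → ¬ q ∣ Nat.card (Cfsg.fittingSubgroup M) → OO q N ⊓ M = ⊥) ∧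
    (∀ q, q.Prime → q ∣ Nat.card (Cfsg.fittingSubgroup M) → ∀ x ∈ OO q N, ∀ e ∈ EE M, x * e = e * x) ∧
    (∀ q r, q.Prime → r.Prime → r ≠ q → q ∣ Nat.card (Cfsg.fittingSubgroup M) →
      r ∣ Nat.card (Cfsg.fittingSubgroup M) → OO q N ≤ M) := by
  obtain ⟨S, hSG, hSN, hsn, hself, hES, -⟩ := start h
  obtain ⟨ha, hb⟩ := main hna hM S hSG hsn hself N hSN
  refine ⟨ha, fun q hq hd x hx e he => ?_, fun q r hq hr hrq hdq hdr => ?_⟩
  · obtain ⟨y, hy, rfl⟩ := he
    haveI := Fact.mk hq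
    set GF := Cfsg.generalizedFittingSubgroup M
    set R := Cfsg.pResidual q GF
    haveI : R.Normal := by infer_instance
    obtain ⟨n, hn⟩ := (isSolvable_of_isPGroup
      (CfsgLib.Transfer.isPGroup_quotient_pResidual (G := GF) (p := q))).solvable
    have hlay : ∀ k : ℕ, (Cfsg.layer M).subgroupOf GF ≤ derivedSeries GF k := by
      intro k
      induction k with
      | zero => exact le_top
      | succ k ih =>
        have e1 : ⁅(Cfsg.layer M).subgroupOf GF, (Cfsg.layer M).subgroupOf GF⁆ = (Cfsg.layer M).subgroupOf GF := by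
          apply Subgroup.map_injective GF.subtype_injective
          rw [Subgroup.map_commutator, Subgroup.map_subgroupOf_eq_of_le CfsgLib.layer_le_generalized,
            CfsgLib.layer_commutator_self]
        rw [derivedSeries_succ, ← e1]
        exact Subgroup.commutator_mono ih ih
    have hyG : y ∈ GF := CfsgLib.layer_le_generalized hy
    have hyR : (⟨y, hyG⟩ : GF) ∈ R := by
      have h1 := map_derivedSeries_le_derivedSeries (QuotientGroup.mk' R) n
        ⟨⟨y, hyG⟩, hlay n (show y ∈ Cfsg.layer M from hy), rfl⟩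
      rw [hn, Subgroup.mem_bot] at h1
      exact (QuotientGroup.eq_one_iff _).1 h1
    exact hb q hq hd x hx y ⟨⟨y, hyG⟩, hyR, rfl⟩
  · haveI := Fact.mk hr
    obtain ⟨Z, hZne, hZO, hZc, hZM, -⟩ := center_OO M hr hdr
    rw [← normalizer_eq_of_coatom hna hM hZne hZc hZM]
    refine le_trans (b := Subgroup.centralizer (Z : Set G)) (fun x hx z hz => ?_) (Subgroup.centralizer_le_normalizer _)
    obtain ⟨y, hy, rfl⟩ := hZO hz
    have hyG : y ∈ Cfsg.generalizedFittingSubgroup M :=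
      CfsgLib.fittingSubgroup_le_generalized (CfsgLib.pCore_le_fittingSubgroup hr hy)
    refine (hb q hq hdq x hx y ⟨⟨y, hyG⟩, CfsgLib.Transfer.mem_pResidual_of_coprime ?_, rfl⟩).symm
    obtain ⟨k, hk⟩ := IsPGroup.iff_orderOf.1 (CfsgLib.isPGroup_pCore (G := M) r) ⟨y, hy⟩
    rw [Subgroup.orderOf_mk] at hk ⊢
    rw [hk]
    exact Nat.Coprime.pow_left _ ((Nat.coprime_primes hr hq).2 hrq)

/-- Every prime of `F(N)` is a prime of `F(M)` if `M ⇝ N` and `N ⇝ M`. -/
theorem prime_sub [IsSimpleGroup G] (hna : ¬ IsMulCommutative G) {M N : Subgroup G} (hM : IsCoatom M)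
    (hMN : Cfsg.leadsTo M N) (hNM : Cfsg.leadsTo N M) {q : ℕ} (hq : q.Prime)
    (hd : q ∣ Nat.card (Cfsg.fittingSubgroup N)) : q ∣ Nat.card (Cfsg.fittingSubgroup M) := by
  by_contra h
  obtain ⟨S, hSG, hSM, -, hself, -, -⟩ := start hNM
  obtain ⟨Z, hZne, hZO, -, -, hZc⟩ := center_OO N hq hd
  refine hZne (le_bot_iff.1 ?_)
  rw [← (leadsTo_facts hna hM hMN).1 q hq h]
  exact le_inf hZO fun z hz =>
    hSM (hself ⟨OO_le_GG hq N (hZO hz), fun s hs => (hZc z hz s (hSG hs)).symm⟩)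

theorem FF_le_of_primes {A B : Subgroup G} (h : ∀ q, q.Prime → q ∣ Nat.card (Cfsg.fittingSubgroup A) → OO q A ≤ B) :
    FF A ≤ B := by
  rw [FF, CfsgLib.fittingSubgroup_eq_iSup_pCore, Subgroup.map_iSup]
  refine iSup_le fun q => ?_
  by_cases hd : (q : ℕ) ∣ Nat.card (Cfsg.fittingSubgroup A)
  · exact h q q.2 hd
  · haveI := Fact.mk q.2
    have h0 : Cfsg.pCore (q : ℕ) A = ⊥ := by
      by_contra hne
      obtain ⟨k, hk⟩ := (CfsgLib.isPGroup_pCore (G := A) (q : ℕ)).exists_card_eq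
      refine hd (Dvd.dvd.trans ?_ (Subgroup.card_dvd_of_le (CfsgLib.pCore_le_fittingSubgroup q.2)))
      rw [hk]
      refine dvd_pow_self _ fun hk0 => hne (Subgroup.eq_bot_of_card_eq _ ?_)
      rw [hk, hk0, pow_zero]
    rw [h0, Subgroup.map_bot]
    exact bot_le

/-- The layer of `M` lies in that of `N`. -/
theorem EE_le_EE_of_cross {M N : Subgroup G} (hEN : EE M ≤ N) (hEM : EE N ≤ M)
    (hcomm : ∀ r : ℕ, r.Prime → ∀ w ∈ OO r N, ∀ e ∈ EE M, w * e = e * w) : EE M ≤ EE N := by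
  rintro _ ⟨e, he, rfl⟩
  revert e
  suffices h : Cfsg.layer M ≤ (EE N).comap M.subtype from fun e he => h he
  refine sSup_le fun K hK => ?_
  set J : Subgroup M := N.comap M.subtype with hJ
  have hKJ : K ≤ J := fun k hk => hEN ⟨k, CfsgLib.le_layer hK hk, rfl⟩
  set E' : Subgroup J := ((EE N).comap M.subtype).subgroupOf J with hE'
  haveI : E'.Normal := ⟨fun x hx g => conj_EE g.2 hx⟩
  rcases CfsgLib.component_le_or_commutator_eq_bot (CfsgLib.isComponent_subgroupOf hK hKJ) E' with h | h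
  · exact fun k hk => h (show (⟨k, hKJ hk⟩ : J) ∈ K.subgroupOf J from hk)
  exfalso
  have hcent : ∀ k ∈ K, ∀ z ∈ GG N, z * (k : G) = k * z := by
    intro k hk
    have e0 : GG N = EE N ⊔ FF N := gfit_eq
    have hle : GG N ≤ Subgroup.centralizer ({(k : G)} : Set G) := by
      rw [e0]
      refine sup_le (fun w hw => ?_) ?_
      · refine Subgroup.mem_centralizer_singleton_iff.2 ?_
        exact (congrArg (fun v : J => ((v : M) : G)) (CfsgLib.Comp.comm_of_commutator_eq_bot h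
          (show (⟨k, hKJ hk⟩ : J) ∈ K.subgroupOf J from hk)
          (show (⟨⟨w, hEM hw⟩, (EE_le (A := N) hw : w ∈ N)⟩ : J) ∈ E' from hw))).symm
      · rw [FF, CfsgLib.fittingSubgroup_eq_iSup_pCore, Subgroup.map_iSup]
        exact iSup_le fun r w hw =>
          Subgroup.mem_centralizer_singleton_iff.2 (hcomm r r.2 w hw k ⟨k, CfsgLib.le_layer hK hk, rfl⟩)
    exact fun z hz => Subgroup.mem_centralizer_singleton_iff.1 (hle hz)
  have hin : ∀ k ∈ K, (k : G) ∈ GG N := fun k hk =>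
    ⟨⟨k, hKJ hk⟩, CfsgLib.centralizer_generalizedFitting_le
      (fun w hw => Subtype.ext (hcent k hk _ ⟨w, hw, rfl⟩)), rfl⟩
  haveI : Group.IsNilpotent K := CfsgLib.Comp.nilpotent_of_comm fun a ha b hb =>
    Subtype.ext (hcent b hb _ (hin a ha))
  exact CfsgLib.isQuasisimple_not_isSolvable hK.2 inferInstance

theorem uniqueness_fitting [IsSimpleGroup G] (hna : ¬ IsMulCommutative G) (M N : Subgroup G) (hM : IsCoatom M)
    (hMN : Cfsg.leadsTo M N) :
    ((∃ q₁ q₂ : ℕ, q₁.Prime ∧ q₂.Prime ∧ q₁ ≠ q₂ ∧ q₁ ∣ Nat.card ↥(Cfsg.fittingSubgroup ↥M) ∧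
        q₂ ∣ Nat.card ↥(Cfsg.fittingSubgroup ↥M)) →
      ∀ q : ℕ, q.Prime → q ∣ Nat.card ↥(Cfsg.fittingSubgroup ↥M) → ∀ R : Sylow q ↥(Cfsg.fittingSubgroup ↥N),
        ((R : Subgroup ↥(Cfsg.fittingSubgroup ↥N)).map (Cfsg.fittingSubgroup ↥N).subtype).map N.subtype ≤ M) ∧
    (∀ q : ℕ, q.Prime → ¬ q ∣ Nat.card ↥(Cfsg.fittingSubgroup ↥M) → ∀ R : Sylow q ↥(Cfsg.fittingSubgroup ↥N),
      ((R : Subgroup ↥(Cfsg.fittingSubgroup ↥N)).map (Cfsg.fittingSubgroup ↥N).subtype).map N.subtype ⊓ M = ⊥) := by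
  obtain ⟨ha, -, hc⟩ := leadsTo_facts hna hM hMN
  refine ⟨?_, fun q hq hd R => ?_⟩
  · rintro ⟨q₁, q₂, h₁, h₂, hne, hd₁, hd₂⟩ q hq hd R
    haveI := Fact.mk hq
    rw [sylow_fitting_eq N R]
    by_cases h : q₁ = q
    · exact hc q q₂ hq h₂ (fun e => hne (h.trans e.symm)) hd hd₂
    · exact hc q q₁ hq h₁ h hd hd₁
  · haveI := Fact.mk hq
    rw [sylow_fitting_eq N R]
    exact ha q hq hd

theorem uniqueness_symm [IsSimpleGroup G] (hna : ¬ IsMulCommutative G) (M N : Subgroup G) (hM : IsCoatom M)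
    (hN : IsCoatom N) (hMN : Cfsg.leadsTo M N) (hNM : Cfsg.leadsTo N M) :
    M = N ∨ ∃ p : ℕ, p.Prime ∧ IsPGroup p ↥(Cfsg.generalizedFittingSubgroup ↥M) ∧
      IsPGroup p ↥(Cfsg.generalizedFittingSubgroup ↥N) := by
  by_cases hne : M = N
  · exact Or.inl hne
  right
  have hsub : ∀ q, q.Prime → (q ∣ Nat.card (Cfsg.fittingSubgroup M) ↔ q ∣ Nat.card (Cfsg.fittingSubgroup N)) :=
    fun q hq => ⟨prime_sub hna hN hNM hMN hq, prime_sub hna hM hMN hNM hq⟩
  obtain ⟨S, -, hSN, -, -, hES, x, hx, hx1⟩ := start hMN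
  have hEN : EE M ≤ N := hES.trans hSN
  obtain ⟨S', -, hSM, -, -, hES', -⟩ := start hNM
  have hEM : EE N ≤ M := hES'.trans hSM
  have hF : Nat.card (Cfsg.fittingSubgroup M) ≠ 1 := by
    intro h
    obtain ⟨y, hy, rfl⟩ := hx
    rw [Subgroup.eq_bot_of_card_eq _ h] at hy
    exact hx1 (by rw [Subgroup.mem_bot.1 hy]; rfl)
  obtain ⟨p, hp, hpM⟩ := Nat.exists_prime_and_dvd hF
  by_cases h2 : ∃ r, r.Prime ∧ r ≠ p ∧ r ∣ Nat.card (Cfsg.fittingSubgroup M)
  · obtain ⟨r, hr, hrp, hrM⟩ := h2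
    have hother : ∀ q, q.Prime → ∃ s, s.Prime ∧ s ≠ q ∧ s ∣ Nat.card (Cfsg.fittingSubgroup M) := fun q _ => by
      by_cases h : q = p
      · exact ⟨r, hr, h ▸ hrp, hrM⟩
      · exact ⟨p, hp, fun e => h e.symm, hpM⟩
    have h1 : FF M ≤ N := FF_le_of_primes fun q hq hd => by
      obtain ⟨s, hs, hsq, hds⟩ := hother q hq
      exact (leadsTo_facts hna hN hNM).2.2 q s hq hs hsq ((hsub q hq).1 hd) ((hsub s hs).1 hds)
    have h2 : FF N ≤ M := FF_le_of_primes fun q hq hd => by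
      obtain ⟨s, hs, hsq, hds⟩ := hother q hq
      exact (leadsTo_facts hna hM hMN).2.2 q s hq hs hsq ((hsub q hq).2 hd) hds
    refine bender_max hna M N hM hN hne ?_ ?_
    · exact (gfit_eq (A := M)).le.trans (sup_le hEN h1)
    · exact (gfit_eq (A := N)).le.trans (sup_le hEM h2)
  push Not at h2
  have hzero : ∀ {A : Subgroup G} {q : ℕ}, q.Prime → ¬ q ∣ Nat.card (Cfsg.fittingSubgroup A) →
      ∀ w ∈ OO q A, w = 1 := by
    intro A q hq hd w hw
    haveI := Fact.mk hq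
    obtain ⟨y, hy, rfl⟩ := hw
    have hyF := CfsgLib.pCore_le_fittingSubgroup hq hy
    obtain ⟨k, hk⟩ := CfsgLib.isPGroup_pCore (G := A) q ⟨y, hy⟩
    have h1 : y ^ q ^ k = 1 := congrArg Subtype.val hk
    have h2 : y ^ Nat.card (Cfsg.fittingSubgroup A) = 1 :=
      congrArg Subtype.val (pow_card_eq_one' (x := (⟨y, hyF⟩ : Cfsg.fittingSubgroup A)))
    rw [eq_one_of_pows h1 h2 (Nat.Coprime.pow_left _ (hq.coprime_iff_not_dvd.2 hd)), map_one]
  have hcomm : ∀ {A B : Subgroup G}, IsCoatom A → Cfsg.leadsTo A B →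
      (∀ q, q.Prime → q ∣ Nat.card (Cfsg.fittingSubgroup B) → q ∣ Nat.card (Cfsg.fittingSubgroup A)) →
      ∀ r : ℕ, r.Prime → ∀ w ∈ OO r B, ∀ e ∈ EE A, w * e = e * w := by
    intro A B hA hAB hs r hr w hw e he
    by_cases hd : r ∣ Nat.card (Cfsg.fittingSubgroup B)
    · exact (leadsTo_facts hna hA hAB).2.1 r hr (hs r hr hd) w hw e he
    · rw [hzero hr hd w hw, one_mul, mul_one]
  have hEeq : EE M = EE N := le_antisymm
    (EE_le_EE_of_cross hEN hEM (hcomm hM hMN fun q hq => (hsub q hq).2))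
    (EE_le_EE_of_cross hEM hEN (hcomm hN hNM fun q hq => (hsub q hq).1))
  have hE0 : EE M = ⊥ := eq_bot_of_two hM hN hne EE_le (fun a ha w hw => conj_EE ha hw)
    (fun a ha w hw => by rw [hEeq] at hw ⊢; exact conj_EE ha hw)
  have hgf : ∀ A : Subgroup G, EE A = ⊥ → Cfsg.generalizedFittingSubgroup A = Cfsg.fittingSubgroup A := by
    intro A h
    rw [EE, Subgroup.map_eq_bot_iff_of_injective _ A.subtype_injective] at h
    rw [Cfsg.generalizedFittingSubgroup, h, bot_sup_eq]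
  have honly : ∀ q, q.Prime → q ∣ Nat.card (Cfsg.fittingSubgroup M) → q = p := fun q hq hd => by
    by_contra hne'
    exact h2 q hq hne' hd
  refine ⟨p, hp, ?_, ?_⟩
  · rw [hgf M hE0]
    exact IsPGroup.of_card (n := (Nat.card (Cfsg.fittingSubgroup M)).primeFactorsList.length)
      (Nat.eq_prime_pow_of_unique_prime_dvd (Nat.card_pos.ne') fun hd hdd => honly _ hd hdd)
  · rw [hgf N (hEeq ▸ hE0)]
    exact IsPGroup.of_card (n := (Nat.card (Cfsg.fittingSubgroup N)).primeFactorsList.length)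
      (Nat.eq_prime_pow_of_unique_prime_dvd (Nat.card_pos.ne') fun hd hdd => honly _ hd ((hsub _ hd).2 hdd))
where
  eq_one_of_pows {K : Type _} [Group K] {x : K} {a b : ℕ} (ha : x ^ a = 1) (hb : x ^ b = 1) (h : a.Coprime b) :
      x = 1 :=
    orderOf_eq_one_iff.1 (Nat.eq_one_of_dvd_coprimes h (orderOf_dvd_of_pow_eq_one ha) (orderOf_dvd_of_pow_eq_one hb))

end CfsgLib.BenderMax
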