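import Mathlib
import Cfsg.Agent.Lib.Basic
import Cfsg.Agent.Lib.Elementary
import Cfsg.Agent.Lib.Components
import Cfsg.Agent.Lib.Coprime
import Cfsg.Agent.Lib.Transfer
import Cfsg.Agent.Lib.PRegularClass
import Cfsg.Agent.Lib.Comp.Layer

/-!
Bender's lemma on the cores of an overgroup of a self-centralizing subnormal subgroup of `F*(A)`, `A` maximal.
-/

set_option autoImplicit false
set_option maxHeartbeats 1000000

open Cfsg

namespace CfsgLib.BenderMax

open scoped commutatorElement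

variable {G : Type*} [Group G] [Finite G]

theorem eq_one_of_coprime_pows {x : G} {a b : ℕ} (ha : x ^ a = 1) (hb : x ^ b = 1) (h : a.Coprime b) : x = 1 :=
  orderOf_eq_one_iff.1 (Nat.eq_one_of_dvd_coprimes h (orderOf_dvd_of_pow_eq_one ha) (orderOf_dvd_of_pow_eq_one hb))

/-- A coprime automorphism of a nilpotent group fixing a self-centralizing subgroup is trivial. -/
theorem centralizes_of_selfCentralizing {W H : Subgroup G} (hW : Group.IsNilpotent W) (hHW : H ≤ W)
    (hself : ∀ x ∈ W, (∀ h ∈ H, x * h = h * x) → x ∈ H) {u : G}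
    (hu : ∀ w ∈ W, u * w * u⁻¹ ∈ W) (hcop : (orderOf u).Coprime (Nat.card W))
    (hfix : ∀ h ∈ H, u * h = h * u) : ∀ w ∈ W, u * w = w * u := by
  set C := W ⊓ Subgroup.centralizer ({u} : Set G) with hC
  have hHC : H ≤ C := fun h hh => ⟨hHW hh, Subgroup.mem_centralizer_singleton_iff.2 (hfix h hh).symm⟩
  suffices h : C.subgroupOf W = ⊤ by
    intro w hw
    have : (⟨w, hw⟩ : W) ∈ C.subgroupOf W := h ▸ Subgroup.mem_top _
    exact (Subgroup.mem_centralizer_singleton_iff.1 this.2).symm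
  by_contra hne
  haveI := hW
  have hlt := normalizerCondition_of_isNilpotent (C.subgroupOf W) (lt_top_iff_ne_top.2 hne)
  obtain ⟨⟨n, hn⟩, hnN, hnC⟩ := SetLike.exists_of_lt hlt
  apply hnC
  refine ⟨hn, Subgroup.mem_centralizer_singleton_iff.2 ?_⟩
  set w := u * n * u⁻¹ * n⁻¹ with hw
  have hwW : w ∈ W := W.mul_mem (hu n hn) (W.inv_mem hn)
  have hwc : ∀ c ∈ C, w * c = c * w := by
    intro c hc
    have h1 : n⁻¹ * c * n ∈ C := by
      have := (Subgroup.mem_normalizer_iff.1 ((Subgroup.normalizer _).inv_mem hnN) ⟨c, hc.1⟩).1 hc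
      simpa [Subgroup.mem_subgroupOf] using this
    have h2 : Commute u (n⁻¹ * c * n) := (Subgroup.mem_centralizer_singleton_iff.1 h1.2).symm
    have h3 : u * c = c * u := (Subgroup.mem_centralizer_singleton_iff.1 hc.2).symm
    calc w * c = u * n * (u⁻¹ * (n⁻¹ * c * n)) * n⁻¹ := by rw [hw]; group
      _ = u * n * ((n⁻¹ * c * n) * u⁻¹) * n⁻¹ := by rw [h2.inv_left.eq]
      _ = (u * c) * (n * u⁻¹ * n⁻¹) := by group
      _ = (c * u) * (n * u⁻¹ * n⁻¹) := by rw [h3]
      _ = c * w := by rw [hw]; group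
  have hwC : w ∈ C := hHC (hself w hwW fun h hh => hwc h (hHC hh))
  have huw : u * w = w * u := (Subgroup.mem_centralizer_singleton_iff.1 hwC.2).symm
  have hpow : ∀ k : ℕ, u ^ k * n * (u ^ k)⁻¹ = w ^ k * n := by
    intro k
    induction k with
    | zero => simp
    | succ k ih =>
      have hck : u * w ^ k = w ^ k * u := ((show Commute u w from huw).pow_right k).eq
      calc u ^ (k + 1) * n * (u ^ (k + 1))⁻¹ = u * (u ^ k * n * (u ^ k)⁻¹) * u⁻¹ := by
            rw [pow_succ']; group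
        _ = (u * w ^ k) * n * u⁻¹ := by rw [ih]; group
        _ = w ^ k * (u * n * u⁻¹) := by rw [hck]; group
        _ = w ^ (k + 1) * n := by rw [pow_succ, hw]; group
  have h1 : w ^ orderOf u = 1 := by
    have := hpow (orderOf u)
    rw [pow_orderOf_eq_one, inv_one, one_mul, mul_one] at this
    exact mul_eq_right.1 this.symm
  have h2 : w ^ Nat.card W = 1 := congrArg Subtype.val (pow_card_eq_one' (x := (⟨w, hwW⟩ : W)))
  have h3 : u * n * u⁻¹ = n := mul_inv_eq_one.1 (eq_one_of_coprime_pows h1 h2 hcop)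
  exact (mul_inv_eq_iff_eq_mul.1 h3).symm

variable (A : Subgroup G)

/-- The layer of a subgroup, in the ambient group. -/
noncomputable def EE : Subgroup G := (Cfsg.layer A).map A.subtype

/-- The Fitting subgroup of a subgroup, in the ambient group. -/
noncomputable def FF : Subgroup G := (Cfsg.fittingSubgroup A).map A.subtype

variable {A}

omit [Finite G] in
theorem EE_le : EE A ≤ A := Subgroup.map_subtype_le _

omit [Finite G] in
theorem FF_le : FF A ≤ A := Subgroup.map_subtype_le _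

theorem comm_EE_FF {e f : G} (he : e ∈ EE A) (hf : f ∈ FF A) : e * f = f * e := by
  obtain ⟨e, he, rfl⟩ := he
  obtain ⟨f, hf, rfl⟩ := hf
  exact congrArg A.subtype (CfsgLib.Comp.comm_layer_fitting he hf)

theorem gfit_eq : (Cfsg.generalizedFittingSubgroup A).map A.subtype = EE A ⊔ FF A := Subgroup.map_sup _ _ _

theorem isNilpotent_FF : Group.IsNilpotent (FF A) := by
  haveI := CfsgLib.isNilpotent_fittingSubgroup (G := A)
  exact Group.nilpotent_of_surjective (A.subtype.subgroupMap _) (MonoidHom.subgroupMap_surjective _ _)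

theorem conj_mem_map (N : Subgroup A) [hN : N.Normal] {a x : G} (ha : a ∈ A) (hx : x ∈ N.map A.subtype) :
    a * x * a⁻¹ ∈ N.map A.subtype := by
  obtain ⟨y, hy, rfl⟩ := hx
  exact ⟨⟨a, ha⟩ * y * ⟨a, ha⟩⁻¹, hN.conj_mem y hy _, rfl⟩

instance layer_normal_aux : (Cfsg.layer A).Normal := by infer_instance

theorem conj_EE {a x : G} (ha : a ∈ A) (hx : x ∈ EE A) : a * x * a⁻¹ ∈ EE A := conj_mem_map _ ha hx

theorem conj_FF {a x : G} (ha : a ∈ A) (hx : x ∈ FF A) : a * x * a⁻¹ ∈ FF A := conj_mem_map _ ha hx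

theorem EE_perfect : ⁅EE A, EE A⁆ = EE A := by
  show ⁅(Cfsg.layer A).map A.subtype, _⁆ = _
  rw [EE, ← Subgroup.map_commutator, CfsgLib.layer_commutator_self]

/-- A nilpotent subgroup of the layer normalized by it lies in the Fitting subgroup. -/
theorem le_FF_of_normalized {R : Subgroup G} (hRE : R ≤ EE A) (hR : Group.IsNilpotent R)
    (hnorm : ∀ e ∈ EE A, ∀ r ∈ R, e * r * e⁻¹ ∈ R) : R ≤ FF A := by
  intro r hr
  obtain ⟨y, hy, rfl⟩ := hRE hr
  refine ⟨y, CfsgLib.map_fittingSubgroup_le (Cfsg.layer A) ⟨⟨y, hy⟩, ?_, rfl⟩, rfl⟩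
  set R' : Subgroup ↥(Cfsg.layer A) := R.comap (A.subtype.comp (Cfsg.layer A).subtype) with hR'
  haveI : R'.Normal := ⟨fun n hn e => hnorm _ ⟨e, e.2, rfl⟩ _ hn⟩
  haveI : Group.IsNilpotent R' := by
    haveI := hR
    refine Subgroup.isNilpotent_of_ker_le_center ((MonoidHom.codRestrict
      ((A.subtype.comp (Cfsg.layer A).subtype).comp R'.subtype) R fun x => x.2)) ?_
    exact le_of_eq_of_le ((MonoidHom.ker_eq_bot_iff _).2 fun a b h =>
      Subtype.ext (Subtype.ext (Subtype.ext (congrArg Subtype.val h :)))) bot_le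
  exact CfsgLib.le_fittingSubgroup (N := R') inferInstance hr

theorem EE_fixes_of_central {u : G}
    (h : ∀ e ∈ EE A, ∀ e' ∈ EE A, (u * e * u⁻¹ * e⁻¹) * e' = e' * (u * e * u⁻¹ * e⁻¹)) (hu : ∀ e ∈ EE A, u * e * u⁻¹ ∈ EE A) :
    ∀ e ∈ EE A, u * e = e * u := by
  have hle : ⁅EE A, EE A⁆ ≤ Subgroup.centralizer ({u} : Set G) := by
    rw [Subgroup.commutator_le]
    intro a ha b hb
    refine Subgroup.mem_centralizer_singleton_iff.2 ?_
    obtain ⟨r, hr, hra⟩ : ∃ r, (∀ e ∈ EE A, r * e = e * r) ∧ u * a * u⁻¹ = r * a := ⟨_, h a ha, by group⟩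
    obtain ⟨s, hs, hsb⟩ : ∃ s, (∀ e ∈ EE A, s * e = e * s) ∧ u * b * u⁻¹ = s * b := ⟨_, h b hb, by group⟩
    have hrE : r ∈ EE A := by
      rw [show r = u * a * u⁻¹ * a⁻¹ by rw [hra]; group]
      exact (EE A).mul_mem (hu a ha) ((EE A).inv_mem ha)
    have hsa : Commute s a := hs a ha
    have hrb : Commute r b := hr b hb
    have hrs : Commute r s := (hs r hrE).symm
    have hra' : Commute r a := hr a ha
    have key : u * ⁅a, b⁆ * u⁻¹ = ⁅a, b⁆ := by
      rw [commutatorElement_def]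
      calc u * (a * b * a⁻¹ * b⁻¹) * u⁻¹
          = (u * a * u⁻¹) * (u * b * u⁻¹) * (u * a * u⁻¹)⁻¹ * (u * b * u⁻¹)⁻¹ := by group
        _ = r * (a * s) * b * a⁻¹ * r⁻¹ * b⁻¹ * s⁻¹ := by rw [hra, hsb]; group
        _ = r * (s * a) * b * a⁻¹ * r⁻¹ * b⁻¹ * s⁻¹ := by rw [hsa.eq]
        _ = r * s * (a * b * a⁻¹ * b⁻¹) * (b * r⁻¹ * b⁻¹) * s⁻¹ := by group
        _ = r * s * (a * b * a⁻¹ * b⁻¹) * r⁻¹ * s⁻¹ := by rw [hrb.symm.inv_right.eq]; group
        _ = r * s * (r⁻¹ * s⁻¹) * (a * b * a⁻¹ * b⁻¹) := by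
          have h1 : Commute (a * b * a⁻¹ * b⁻¹) (r⁻¹ * s⁻¹) := by
            have hm : a * b * a⁻¹ * b⁻¹ ∈ EE A :=
              (EE A).mul_mem ((EE A).mul_mem ((EE A).mul_mem ha hb) ((EE A).inv_mem ha)) ((EE A).inv_mem hb)
            exact ((show Commute r _ from hr _ hm).inv_left.mul_left (show Commute s _ from hs _ hm).inv_left).symm
          rw [mul_assoc _ r⁻¹ s⁻¹, mul_assoc _ (a * b * a⁻¹ * b⁻¹) _, h1.eq, ← mul_assoc]
        _ = a * b * a⁻¹ * b⁻¹ := by rw [hrs.inv_left.inv_right.eq]; group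
    exact (mul_inv_eq_iff_eq_mul.1 key).symm
  intro e he
  rw [← EE_perfect] at he
  exact (Subgroup.mem_centralizer_singleton_iff.1 (hle he)).symm

end CfsgLib.BenderMax
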