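import Cfsg.Agent.Lib.BenderMax.CoreAction

/-!
`O_q(B) ∩ A = 1` and `[O_p(B), O^p(F*(A))] = 1`.
-/

set_option autoImplicit false
set_option maxHeartbeats 1000000

open Cfsg

namespace CfsgLib.BenderMax

open scoped commutatorElement

variable {G : Type*} [Group G] [Finite G] {A : Subgroup G}

theorem normalizer_eq_of_coatom [IsSimpleGroup G] (hna : ¬ IsMulCommutative G) (hA : IsCoatom A)
    {Z : Subgroup G} (hZ : Z ≠ ⊥) (hcomm : ∀ x ∈ Z, ∀ y ∈ Z, x * y = y * x)
    (hAZ : ∀ a ∈ A, ∀ z ∈ Z, a * z * a⁻¹ ∈ Z) : Subgroup.normalizer (Z : Set G) = A := by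
  have hle : A ≤ Subgroup.normalizer (Z : Set G) :=
    fun a ha => Subgroup.mem_normalizer_fintype fun z hz => hAZ a ha z hz
  rcases eq_or_lt_of_le hle with h | h
  · exact h.symm
  exfalso
  have htop := hA.2 _ h
  haveI : Z.Normal := Subgroup.normalizer_eq_top_iff.1 htop
  rcases (inferInstance : Z.Normal).eq_bot_or_eq_top with h1 | h1
  · exact hZ h1
  · exact hna ⟨⟨fun a b => hcomm a (h1 ▸ Subgroup.mem_top a) b (h1 ▸ Subgroup.mem_top b)⟩⟩

/-- The centre of a characteristic piece of `A`, in `G`. -/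
theorem center_map_props (N : Subgroup A) [hN : N.Normal] :
    (∀ x ∈ ((Subgroup.center N).map N.subtype).map A.subtype,
      ∀ y ∈ N.map A.subtype, x * y = y * x) ∧
      ∀ a ∈ A, ∀ z ∈ ((Subgroup.center N).map N.subtype).map A.subtype,
        a * z * a⁻¹ ∈ ((Subgroup.center N).map N.subtype).map A.subtype := by
  refine ⟨?_, fun a ha z hz => ?_⟩
  · rintro _ ⟨_, ⟨c, hc, rfl⟩, rfl⟩ _ ⟨y, hy, rfl⟩
    exact congrArg (fun w : N => ((w : A) : G)) (Subgroup.mem_center_iff.1 hc ⟨y, hy⟩).symm
  · haveI : ((Subgroup.center N).map N.subtype).Normal := by infer_instance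
    exact conj_mem_map _ ha hz

theorem main [IsSimpleGroup G] (hna : ¬ IsMulCommutative G) (hA : IsCoatom A) (S : Subgroup G)
    (hSF : S ≤ (Cfsg.generalizedFittingSubgroup ↥A).map A.subtype)
    (hSsn : (S.subgroupOf ((Cfsg.generalizedFittingSubgroup ↥A).map A.subtype)).IsSubnormal)
    (hSC : (Cfsg.generalizedFittingSubgroup ↥A).map A.subtype ⊓ Subgroup.centralizer (S : Set G) ≤ S)
    (B : Subgroup G) (hSB : S ≤ B) :
    (∀ q : ℕ, q.Prime → ¬ q ∣ Nat.card (Cfsg.fittingSubgroup ↥A) → (Cfsg.pCore q ↥B).map B.subtype ⊓ A = ⊥) ∧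
    (∀ p : ℕ, p.Prime → p ∣ Nat.card (Cfsg.fittingSubgroup ↥A) → ∀ x ∈ (Cfsg.pCore p ↥B).map B.subtype,
      ∀ y ∈ (Cfsg.pResidual p ↥(Cfsg.generalizedFittingSubgroup ↥A)).map
        ((Cfsg.generalizedFittingSubgroup ↥A).subtype), x * (A.subtype y) = (A.subtype y) * x) := by
  set FS := (Cfsg.generalizedFittingSubgroup ↥A).map A.subtype with hFS
  have hFSA : FS ≤ A := Subgroup.map_subtype_le _
  have hSA : S ≤ A := hSF.trans hFSA
  -- the layer is inside `S`
  have hsub : (S.subgroupOf A).IsSubnormal := by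
    have e : (S.subgroupOf A) =
        ((S.subgroupOf A).subgroupOf (Cfsg.generalizedFittingSubgroup ↥A)).map
          (Cfsg.generalizedFittingSubgroup ↥A).subtype := by
      rw [Subgroup.map_subgroupOf_eq_of_le]
      intro x hx
      obtain ⟨y, hy, hxy⟩ := hSF hx
      rwa [show x = y from Subtype.ext hxy.symm]
    rw [e]
    refine Subgroup.IsSubnormal.trans' ?_ (Subgroup.Normal.isSubnormal inferInstance)
    have h2 := hSsn.map (f := ((Cfsg.generalizedFittingSubgroup ↥A).equivMapOfInjective A.subtype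
      A.subtype_injective).symm.toMonoidHom) (MulEquiv.surjective _)
    convert h2 using 1
    ext x
    constructor
    · intro hx
      exact ⟨(Cfsg.generalizedFittingSubgroup ↥A).equivMapOfInjective A.subtype A.subtype_injective x, hx,
        MulEquiv.symm_apply_apply _ _⟩
    · rintro ⟨y, hy, rfl⟩
      show (((((Cfsg.generalizedFittingSubgroup ↥A).equivMapOfInjective A.subtype
        A.subtype_injective).symm y) : A) : G) ∈ S
      have := congrArg Subtype.val
        (((Cfsg.generalizedFittingSubgroup ↥A).equivMapOfInjective A.subtype A.subtype_injective).apply_symm_apply y)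
      rw [Subgroup.coe_equivMapOfInjective_apply] at this
      show A.subtype _ ∈ S
      rw [this]
      exact hy
  have hFSeq : FS = EE A ⊔ FF A := gfit_eq
  have hES : EE A ≤ S := by
    rintro _ ⟨e, he, rfl⟩
    revert e
    suffices h : Cfsg.layer A ≤ S.subgroupOf A from fun e he => h he
    refine sSup_le fun K hK => ?_
    rcases CfsgLib.Comp.exists_split_of_subnormal hsub hK with h | h
    · exact h
    · intro k hk
      refine hSC ⟨⟨k, CfsgLib.layer_le_generalized (CfsgLib.le_layer hK hk), rfl⟩, fun s hs => ?_⟩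
      exact (congrArg Subtype.val (CfsgLib.Comp.comm_of_commutator_eq_bot h hk
        (show (⟨s, hSA hs⟩ : A) ∈ S.subgroupOf A from hs))).symm
  -- decomposition of the members of `S`
  have hSdec : ∀ s ∈ S, ∃ e ∈ EE A, ∃ f ∈ FF A, f ∈ S ∧ s = e * f := by
    intro s hs
    have hs' : s ∈ EE A ⊔ FF A := hFSeq ▸ hSF hs
    have hn : FF A ≤ Subgroup.normalizer (EE A : Set G) :=
      fun f hf => Subgroup.mem_normalizer_fintype fun e he => conj_EE (FF_le hf) he
    have : s ∈ ((EE A ⊔ FF A : Subgroup G) : Set G) := hs'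
    rw [Subgroup.coe_mul_of_right_le_normalizer_left (EE A) (FF A) hn] at this
    obtain ⟨e, he, f, hf, rfl⟩ := this
    refine ⟨e, he, f, hf, ?_, rfl⟩
    have := S.mul_mem (S.inv_mem (hES he)) hs
    rwa [inv_mul_cancel_left] at this
  -- self-centralization inside the Fitting subgroup
  have hselfS : ∀ x ∈ FF A, (∀ f ∈ S, f ∈ FF A → x * f = f * x) → x ∈ S := by
    intro x hx hc
    refine hSC ⟨hFSeq ▸ Subgroup.mem_sup_right hx, fun s hs => ?_⟩
    obtain ⟨e, he, f, hf, hfS, rfl⟩ := hSdec s hs
    exact ((show Commute e x from comm_EE_FF he hx).mul_left (show Commute f x from (hc f hfS hf).symm)).eq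
  -- elements of a normalized `p`-subgroup of `A` centralize the layer
  have hcentE : ∀ (p : ℕ) [Fact p.Prime] (Q : Subgroup G), IsPGroup p Q → Q ≤ A →
      (∀ e ∈ EE A, ∀ u ∈ Q, e * u * e⁻¹ ∈ Q) → ∀ u ∈ Q, ∀ e ∈ EE A, u * e = e * u := by
    intro p _ Q hQ hQA hnorm u hu
    set R := Q ⊓ EE A with hR
    have hRF : R ≤ FF A := le_FF_of_normalized inf_le_right ((hQ.to_le inf_le_left).isNilpotent)
      fun e he r hr => ⟨hnorm e he r hr.1, (EE A).mul_mem ((EE A).mul_mem he hr.2) ((EE A).inv_mem he)⟩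
    refine EE_fixes_of_central (fun e he e' he' => ?_) (fun e he => conj_EE (hQA hu) he)
    have hmem : u * e * u⁻¹ * e⁻¹ ∈ R := by
      refine ⟨?_, (EE A).mul_mem (conj_EE (hQA hu) he) ((EE A).inv_mem he)⟩
      have := Q.mul_mem hu (hnorm e he u⁻¹ (Q.inv_mem hu))
      simpa [mul_assoc] using this
    exact (comm_EE_FF he' (hRF hmem)).symm
  refine ⟨fun q hq hqF => ?_, fun p hp hpF => ?_⟩
  · -- part (a)
    haveI := Fact.mk hq
    set Q := (Cfsg.pCore q ↥B).map B.subtype ⊓ A with hQdef
    have hQp : IsPGroup q Q := ((CfsgLib.isPGroup_pCore q).map _).to_le inf_le_left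
    have hQnorm : ∀ s ∈ S, ∀ u ∈ Q, s * u * s⁻¹ ∈ Q := fun s hs u hu =>
      ⟨conj_mem_map _ (hSB hs) hu.1, A.mul_mem (A.mul_mem (hSA hs) hu.2) (A.inv_mem (hSA hs))⟩
    have hQE := hcentE q Q hQp inf_le_right fun e he => hQnorm e (hES he)
    have hcardF : Nat.card (FF A) = Nat.card (Cfsg.fittingSubgroup A) :=
      Subgroup.card_map_of_injective A.subtype_injective
    have hQF1 : ∀ x ∈ Q, x ∈ FF A → x = 1 := by
      intro x hxQ hxF
      obtain ⟨k, hk⟩ := hQp ⟨x, hxQ⟩
      refine eq_one_of_coprime_pows (a := q ^ k) (congrArg Subtype.val hk :)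
        (congrArg Subtype.val (pow_card_eq_one' (x := (⟨x, hxF⟩ : FF A)))) ?_
      rw [hcardF]
      exact Nat.Coprime.pow_left _ (hq.coprime_iff_not_dvd.2 hqF)
    rw [eq_bot_iff]
    intro u hu
    have hfix : ∀ f ∈ S, f ∈ FF A → u * f = f * u := by
      intro f hfS hf
      have h1 : u * f * u⁻¹ * f⁻¹ ∈ Q := by
        have := Q.mul_mem hu (hQnorm f hfS u⁻¹ (Q.inv_mem hu))
        simpa [mul_assoc] using this
      have h2 : u * f * u⁻¹ * f⁻¹ ∈ FF A := (FF A).mul_mem (conj_FF hu.2 hf) ((FF A).inv_mem hf)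
      exact mul_inv_eq_iff_eq_mul.1 (mul_inv_eq_one.1 (hQF1 _ h1 h2))
    have hcop : (orderOf u).Coprime (Nat.card (FF A)) := by
      obtain ⟨k, hk⟩ := IsPGroup.iff_orderOf.1 hQp ⟨u, hu⟩
      rw [Subgroup.orderOf_mk] at hk
      rw [hk, hcardF]
      exact Nat.Coprime.pow_left _ (hq.coprime_iff_not_dvd.2 hqF)
    have hall := centralizes_of_selfCentralizing isNilpotent_FF (H := S ⊓ FF A) inf_le_right
      (fun x hx hc => ⟨hselfS x hx fun f hfS hf => hc f ⟨hfS, hf⟩, hx⟩) (fun w hw => conj_FF hu.2 hw) hcop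
      (fun h hh => hfix h hh.1 hh.2)
    have hcent : (⟨u, hu.2⟩ : A) ∈ Subgroup.centralizer (Cfsg.generalizedFittingSubgroup A : Set A) := by
      have hle : EE A ⊔ FF A ≤ Subgroup.centralizer ({u} : Set G) := sup_le
        (fun e he => Subgroup.mem_centralizer_singleton_iff.2 (hQE u hu e he).symm)
        (fun f hf => Subgroup.mem_centralizer_singleton_iff.2 (hall f hf).symm)
      intro w hw
      exact Subtype.ext (Subgroup.mem_centralizer_singleton_iff.1 (hle (hFSeq ▸ ⟨w, hw, rfl⟩)))
    have hin := CfsgLib.centralizer_generalizedFitting_le hcent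
    have huFS : u ∈ EE A ⊔ FF A := hFSeq ▸ ⟨⟨u, hu.2⟩, hin, rfl⟩
    have hn : FF A ≤ Subgroup.normalizer (EE A : Set G) :=
      fun f hf => Subgroup.mem_normalizer_fintype fun e he => conj_EE (FF_le hf) he
    have huS : u ∈ S := by
      refine hSC ⟨hFSeq.symm ▸ huFS, fun s hs => ?_⟩
      obtain ⟨e, he, f, hf, -, rfl⟩ := hSdec s hs
      exact ((show Commute e u from (hQE u hu e he).symm).mul_left (show Commute f u from (hall f hf).symm)).eq
    obtain ⟨e, he, f, hf, -, hef⟩ := hSdec u huS
    -- `u` is central in the layer times the Fitting subgroup, hence in the Fitting subgroup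
    have heF : e ∈ FF A := by
      refine le_FF_of_normalized (R := Subgroup.zpowers e) (Subgroup.zpowers_le.2 he) (CfsgLib.Comp.nilpotent_of_comm (by
          rintro _ ⟨i, rfl⟩ _ ⟨j, rfl⟩
          exact (Commute.zpow_zpow (Commute.refl e) i j).eq))
        (fun x hx r hr => ?_) (Subgroup.mem_zpowers e)
      obtain ⟨i, rfl⟩ := hr
      show x * e ^ i * x⁻¹ ∈ Subgroup.zpowers e
      have hxe : Commute x e := by
        have : e = u * f⁻¹ := by rw [hef, mul_inv_cancel_right]
        rw [this]
        exact (show Commute x u from (hQE u hu x hx).symm).mul_right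
          (show Commute x f from comm_EE_FF hx hf).inv_right
      rw [(hxe.zpow_right i).eq, mul_inv_cancel_right]
      exact Subgroup.zpow_mem_zpowers e i
    exact Subgroup.mem_bot.2 (hQF1 u hu (hef ▸ (FF A).mul_mem heF hf))
  · -- part (b)
    haveI := Fact.mk hp
    set P := (Cfsg.pCore p ↥B).map B.subtype with hPdef
    have hPp : IsPGroup p P := (CfsgLib.isPGroup_pCore p).map _
    have hBP : ∀ b ∈ B, ∀ x ∈ P, b * x * b⁻¹ ∈ P := fun b hb x hx => conj_mem_map _ hb hx
    set O := (Cfsg.pCore p A).map A.subtype with hO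
    set N := Cfsg.pPrimeCore p A ⊓ Cfsg.fittingSubgroup A with hN
    set D := N.map A.subtype with hD
    haveI hNn : N.Normal := Subgroup.normal_inf_normal _ _
    have hOne : Cfsg.pCore p A ≠ ⊥ := fun h => CfsgLib.not_dvd_card_fitting_of_pCore_eq_bot h hpF
    have hOF : O ≤ FF A := Subgroup.map_mono (CfsgLib.pCore_le_fittingSubgroup hp)
    have hDF : D ≤ FF A := Subgroup.map_mono inf_le_right
    have hDcop : (Nat.card D).Coprime p := by
      rw [hD, Subgroup.card_map_of_injective A.subtype_injective]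
      exact (CfsgLib.card_pPrimeCore_coprime p).coprime_dvd_left (Subgroup.card_dvd_of_le inf_le_left)
    have hOD : ∀ o ∈ O, ∀ d ∈ D, o * d = d * o := by
      rintro _ ⟨o, ho, rfl⟩ _ ⟨d, hd, rfl⟩
      refine congrArg A.subtype (Subgroup.commute_of_normal_of_disjoint _ _ inferInstance inferInstance ?_ o d ho hd.1)
      rw [disjoint_iff]
      refine Subgroup.inf_eq_bot_of_coprime ?_
      obtain ⟨k, hk⟩ := (CfsgLib.isPGroup_pCore (G := A) p).exists_card_eq
      rw [hk]
      exact Nat.Coprime.pow_left _ (CfsgLib.card_pPrimeCore_coprime (G := A) p).symm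
    have hFOD : FF A ≤ O ⊔ D := by
      rw [hO, hD, ← Subgroup.map_sup]
      refine Subgroup.map_mono ?_
      rw [CfsgLib.fittingSubgroup_eq_iSup_pCore]
      refine iSup_le fun q => ?_
      rcases eq_or_ne p (q : ℕ) with e | e
      · rw [← e]; exact le_sup_left
      · refine le_sup_of_le_right (le_inf ?_ (CfsgLib.pCore_le_fittingSubgroup q.2))
        haveI := Fact.mk q.2
        obtain ⟨k, hk⟩ := (CfsgLib.isPGroup_pCore (G := A) (q : ℕ)).exists_card_eq
        exact CfsgLib.le_pPrimeCore (by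
          rw [hk]; exact Nat.Coprime.pow_left _ ((Nat.coprime_primes q.2 hp).2 (Ne.symm e)))
    -- the centre of `O_p(A)`
    set Z := ((Subgroup.center (Cfsg.pCore p A)).map (Cfsg.pCore p A).subtype).map A.subtype with hZ
    obtain ⟨hZO, hZA⟩ := center_map_props (Cfsg.pCore p A)
    have hZO' : Z ≤ O := Subgroup.map_mono (Subgroup.map_subtype_le _)
    have hZne : Z ≠ ⊥ := by
      rw [hZ, Ne, Subgroup.map_eq_bot_iff_of_injective _ A.subtype_injective,
        Subgroup.map_eq_bot_iff_of_injective _ (Subgroup.subtype_injective _)]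
      haveI : Nontrivial (Cfsg.pCore p A) := (Subgroup.nontrivial_iff_ne_bot _).2 hOne
      haveI := (CfsgLib.isPGroup_pCore (G := A) p).center_nontrivial
      exact (Subgroup.nontrivial_iff_ne_bot _).1 inferInstance
    have hZF : ∀ z ∈ Z, ∀ f ∈ FF A, z * f = f * z := by
      intro z hz f hf
      have hle : O ⊔ D ≤ Subgroup.centralizer ({z} : Set G) := sup_le
        (fun o ho => Subgroup.mem_centralizer_singleton_iff.2 (hZO z hz o ho).symm)
        (fun d hd => Subgroup.mem_centralizer_singleton_iff.2 (hOD z (hZO' hz) d hd).symm)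
      exact (Subgroup.mem_centralizer_singleton_iff.1 (hle (hFOD hf))).symm
    have hZS : Z ≤ S := fun z hz => hselfS z (hOF (hZO' hz)) fun f _ hf => hZF z hz f hf
    have hNZ := normalizer_eq_of_coatom hna hA hZne (fun x hx y hy => hZO x hx y (hZO' hy)) hZA
    have hPA : P ⊓ Subgroup.centralizer (Z : Set G) ≤ P ⊓ A :=
      le_inf inf_le_left (inf_le_right.trans ((Subgroup.centralizer_le_normalizer _).trans hNZ.le))
    have hPAnorm : ∀ s ∈ S, ∀ u ∈ P ⊓ A, s * u * s⁻¹ ∈ P ⊓ A := fun s hs u hu =>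
      ⟨hBP s (hSB hs) u hu.1, A.mul_mem (A.mul_mem (hSA hs) hu.2) (A.inv_mem (hSA hs))⟩
    have hPAE := hcentE p (P ⊓ A) (hPp.to_le inf_le_left) inf_le_right fun e he => hPAnorm e (hES he)
    have hPD1 : ∀ x ∈ P, x ∈ D → x = 1 := by
      intro x hxP hxD
      obtain ⟨k, hk⟩ := hPp ⟨x, hxP⟩
      exact eq_one_of_coprime_pows (a := p ^ k) (congrArg Subtype.val hk :)
        (congrArg Subtype.val (pow_card_eq_one' (x := (⟨x, hxD⟩ : D))))
        (Nat.Coprime.pow_left _ hDcop.symm)
    have hDconj : ∀ a ∈ A, ∀ d ∈ D, a * d * a⁻¹ ∈ D := fun a ha d hd => conj_mem_map _ ha hd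
    -- the `p'`-elements acting trivially
    have hkey : ∀ y, y ∈ S → (orderOf y).Coprime p → (∀ z ∈ Z, z * y = y * z) →
        (∀ u ∈ P ⊓ A, u * y = y * u) → ∀ u ∈ P, y * u = u * y := by
      intro y hyS hy hzy hfix u hu
      have h := CfsgLib.thompson_PxQ (P := Z) (Q := Subgroup.zpowers y)
        (((CfsgLib.isPGroup_pCore p).to_subgroup (Subgroup.center (Cfsg.pCore p A))).map _ |>.map _)
        (by rwa [Nat.card_zpowers])
        (fun z hz w hw => by
          obtain ⟨i, rfl⟩ := hw
          exact ((show Commute z y from hzy z hz).zpow_right i).eq.symm)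
        P hPp (fun z hz => Subgroup.mem_normalizer_fintype fun x hx => hBP z (hSB (hZS hz)) x hx)
        (Subgroup.zpowers_le.2 (Subgroup.mem_normalizer_fintype fun x hx => hBP y (hSB hyS) x hx))
        (fun x hx w hw => by
          obtain ⟨i, rfl⟩ := hw
          exact ((show Commute x y from hfix x (hPA hx)).zpow_right i).eq.symm)
      exact (h (Subgroup.mem_zpowers y) u hu).symm
    have hEP : ∀ e ∈ EE A, ∀ u ∈ P, e * u = u * e := by
      have hle : EE A ≤ Subgroup.centralizer (P : Set G) := by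
        set K := (Subgroup.centralizer (P : Set G)).subgroupOf (EE A) with hK
        have hres : Cfsg.pResidual p (EE A) ≤ K := by
          rw [Cfsg.pResidual, Subgroup.closure_le]
          intro e he u hu
          exact (hkey e (hES e.2) (by rw [Subgroup.orderOf_coe]; exact he)
            (fun z hz => (comm_EE_FF e.2 (hOF (hZO' hz))).symm)
            (fun x hx => hPAE x hx e e.2) u hu).symm
        have hperf : Cfsg.pResidual p (EE A) = ⊤ := by
          haveI : (Cfsg.pResidual p (EE A)).Normal := by infer_instance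
          have hq := CfsgLib.Transfer.isPGroup_quotient_pResidual (G := EE A) (p := p)
          haveI : Group.IsNilpotent (EE A ⧸ Cfsg.pResidual p (EE A)) := hq.isNilpotent
          haveI hperfE : Group.IsPerfect (EE A) := ⟨by
            apply Subgroup.map_injective (EE A).subtype_injective
            rw [_root_.commutator_def, Subgroup.map_commutator, ← MonoidHom.range_eq_map, Subgroup.range_subtype,
              EE_perfect]⟩
          haveI : Group.IsPerfect (EE A ⧸ Cfsg.pResidual p (EE A)) :=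
            Group.IsPerfect.ofSurjective (f := QuotientGroup.mk' _) (QuotientGroup.mk'_surjective _)
          by_contra hne
          haveI : Nontrivial (EE A ⧸ Cfsg.pResidual p (EE A)) :=
            (QuotientGroup.nontrivial_iff).2 hne
          exact Group.IsPerfect.not_isSolvable (EE A ⧸ Cfsg.pResidual p (EE A)) inferInstance
        intro e he
        exact hres (hperf ▸ Subgroup.mem_top (⟨e, he⟩ : EE A))
      exact fun e he u hu => (hle he u hu).symm
    have hSDP : ∀ d ∈ D, d ∈ S → ∀ u ∈ P, d * u = u * d := by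
      intro d hd hdS
      refine hkey d hdS ?_ (fun z hz => hOD z (hZO' hz) d hd) (fun u hu => ?_)
      · refine hDcop.coprime_dvd_left ?_
        rw [← Subgroup.orderOf_mk d hd]; exact orderOf_dvd_natCard _
      · have h1 : u * d * u⁻¹ * d⁻¹ ∈ P := by
          have := P.mul_mem hu.1 (hBP d (hSB hdS) u⁻¹ (P.inv_mem hu.1))
          simpa [mul_assoc] using this
        exact mul_inv_eq_iff_eq_mul.1 (mul_inv_eq_one.1
          (hPD1 _ h1 (D.mul_mem (hDconj u hu.2 d hd) (D.inv_mem hd))))
    have hselfD : ∀ x ∈ D, (∀ h ∈ S ⊓ D, x * h = h * x) → x ∈ S ⊓ D := by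
      intro x hx hc
      refine ⟨hselfS x (hDF hx) fun f hfS hf => ?_, hx⟩
      have hn : D ≤ Subgroup.normalizer (O : Set G) := fun d hd =>
        Subgroup.mem_normalizer_fintype fun o ho => conj_mem_map _ (Subgroup.map_subtype_le _ hd) ho
      have h' : f ∈ ((O ⊔ D : Subgroup G) : Set G) := hFOD hf
      rw [Subgroup.coe_mul_of_right_le_normalizer_left O D hn] at h'
      obtain ⟨o, ho, d, hd, rfl⟩ := h'
      obtain ⟨k, hk⟩ := ((CfsgLib.isPGroup_pCore (G := A) p).map A.subtype) ⟨o, ho⟩
      have hok : o ^ p ^ k = 1 := congrArg Subtype.val hk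
      have hdS : d ∈ S := by
        obtain ⟨j, hj⟩ := exists_pow_eq_self_of_coprime (x := d) (n := p ^ k) (by
          refine Nat.Coprime.pow_left _ (Nat.Coprime.symm (hDcop.coprime_dvd_left ?_))
          rw [← Subgroup.orderOf_mk d hd]; exact orderOf_dvd_natCard _)
        rw [← hj]
        refine S.pow_mem ?_ j
        have := S.pow_mem hfS (p ^ k)
        rwa [(show Commute o d from hOD o ho d hd).mul_pow, hok, one_mul] at this
      exact ((show Commute x o from (hOD o ho x hx).symm).mul_right (show Commute x d from hc d ⟨hdS, hd⟩)).eq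
    have hDP : ∀ d ∈ D, ∀ u ∈ P, u * d = d * u := by
      rcases eq_or_ne D ⊥ with hD0 | hD0
      · intro d hd u _
        rw [hD0, Subgroup.mem_bot] at hd
        rw [hd, mul_one, one_mul]
      set W := ((Subgroup.center N).map N.subtype).map A.subtype with hW
      obtain ⟨hWD, hWA⟩ := center_map_props N
      have hWD' : W ≤ D := Subgroup.map_mono (Subgroup.map_subtype_le _)
      have hWne : W ≠ ⊥ := by
        rw [hW, Ne, Subgroup.map_eq_bot_iff_of_injective _ A.subtype_injective,
          Subgroup.map_eq_bot_iff_of_injective _ (Subgroup.subtype_injective _)]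
        intro hc
        haveI : Group.IsNilpotent (Cfsg.fittingSubgroup A) := CfsgLib.isNilpotent_fittingSubgroup
        haveI : Group.IsNilpotent N :=
          Group.nilpotent_of_mulEquiv (Subgroup.subgroupOfEquivOfLe (inf_le_right : N ≤ Cfsg.fittingSubgroup A))
        refine CfsgLib.inf_center_ne_bot_of_nilpotent (N := (⊤ : Subgroup N)) ?_ (by rw [top_inf_eq]; exact hc)
        intro htop
        apply hD0
        rw [hD, Subgroup.map_eq_bot_iff_of_injective _ A.subtype_injective]
        haveI := (Subgroup.subsingleton_iff (G := N)).1 (subsingleton_iff_bot_eq_top.1 htop.symm)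
        exact Subgroup.eq_bot_of_subsingleton N
      have hWS : ∀ w ∈ W, w ∈ S := fun w hw => (hselfD w (hWD' hw) fun h hh => hWD w hw h hh.2).1
      have hPleA : P ≤ A := by
        rw [← normalizer_eq_of_coatom hna hA hWne (fun x hx y hy => hWD x hx y (hWD' hy)) hWA]
        refine le_trans (fun u hu => ?_) (Subgroup.centralizer_le_normalizer _)
        exact fun w hw => hSDP w (hWD' hw) (hWS w hw) u hu
      intro d hd u hu
      haveI : Group.IsNilpotent (FF A) := isNilpotent_FF
      refine centralizes_of_selfCentralizing (Group.nilpotent_of_mulEquiv (Subgroup.subgroupOfEquivOfLe hDF))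
        (H := S ⊓ D) inf_le_right hselfD (fun w hw => hDconj u (hPleA hu) w hw) ?_
        (fun h hh => (hSDP h hh.2 hh.1 u hu).symm) d hd
      obtain ⟨k, hk⟩ := IsPGroup.iff_orderOf.1 hPp ⟨u, hu⟩
      rw [Subgroup.orderOf_mk] at hk
      rw [hk]
      exact Nat.Coprime.pow_left _ hDcop.symm
    intro x hx y hy
    -- `O^p(F*(A))` centralizes `P`
    set GF := Cfsg.generalizedFittingSubgroup A with hGF
    set K := (Cfsg.layer A ⊔ N).subgroupOf GF with hK
    haveI : K.Normal := by infer_instance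
    have hKP : ∀ w ∈ K, A.subtype (GF.subtype w) * x = x * A.subtype (GF.subtype w) := by
      intro w hw
      have hle : Cfsg.layer A ⊔ N ≤ (Subgroup.centralizer ({x} : Set G)).comap A.subtype := sup_le
        (fun e he => Subgroup.mem_centralizer_singleton_iff.2 (hEP _ ⟨e, he, rfl⟩ x hx))
        (fun d hd => Subgroup.mem_centralizer_singleton_iff.2 (hDP _ ⟨d, hd, rfl⟩ x hx).symm)
      exact Subgroup.mem_centralizer_singleton_iff.1 (hle hw)
    have hquot : IsPGroup p (GF ⧸ K) := by
      intro q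
      induction q using QuotientGroup.induction_on with
      | H g =>
        have hsup : Cfsg.generalizedFittingSubgroup A ≤ (Cfsg.layer A ⊔ N) ⊔ Cfsg.pCore p A := by
          refine sup_le (le_sup_of_le_left le_sup_left) ?_
          have h2 := hFOD
          rw [FF, hO, hD, ← Subgroup.map_sup, Subgroup.map_le_map_iff_of_injective A.subtype_injective] at h2
          exact h2.trans (sup_le le_sup_right (le_sup_of_le_left le_sup_right))
        obtain ⟨k0, hk0, o, ho, hgo⟩ := Subgroup.mem_sup_of_normal_left.1 (hsup g.2)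
        have hoG : o ∈ GF := CfsgLib.fittingSubgroup_le_generalized (CfsgLib.pCore_le_fittingSubgroup hp ho)
        obtain ⟨k, hk⟩ := CfsgLib.isPGroup_pCore (G := A) p ⟨o, ho⟩
        refine ⟨k, ?_⟩
        have he : (QuotientGroup.mk g : GF ⧸ K) = QuotientGroup.mk (⟨o, hoG⟩ : GF) := by
          refine QuotientGroup.eq.2 ?_
          show (g : A)⁻¹ * o ∈ Cfsg.layer A ⊔ N
          have h1 : o⁻¹ * k0⁻¹ * o⁻¹⁻¹ ∈ Cfsg.layer A ⊔ N :=
            (inferInstance : (Cfsg.layer A ⊔ N).Normal).conj_mem _ (Subgroup.inv_mem _ hk0) _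
          rw [← hgo]
          rwa [inv_inv, ← mul_inv_rev] at h1
        rw [he, ← QuotientGroup.mk_pow]
        refine (QuotientGroup.eq_one_iff _).2 ?_
        show o ^ p ^ k ∈ Cfsg.layer A ⊔ N
        rw [show o ^ p ^ k = 1 from congrArg Subtype.val hk]
        exact one_mem _
    obtain ⟨y', hy', rfl⟩ := hy
    exact (hKP y' (CfsgLib.Transfer.pResidual_le_of_isPGroup_quotient K hquot hy')).symm

end CfsgLib.BenderMax
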