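import Cfsg.Agent.Lib.BenderMax.CoreMain

/-!
Bender's maximal subgroup theorem.
-/

set_option autoImplicit false
set_option maxHeartbeats 1000000

open Cfsg

namespace CfsgLib.BenderMax

open scoped commutatorElement

variable {G : Type*} [Group G] [Finite G]

/-- `F*(A)` in `G`. -/
noncomputable def GG (A : Subgroup G) : Subgroup G := (Cfsg.generalizedFittingSubgroup A).map A.subtype

/-- `O_r(A)` in `G`. -/
noncomputable def OO (r : ℕ) (A : Subgroup G) : Subgroup G := (Cfsg.pCore r A).map A.subtype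

theorem OO_le_GG {r : ℕ} (hr : r.Prime) (A : Subgroup G) : OO r A ≤ GG A :=
  Subgroup.map_mono ((CfsgLib.pCore_le_fittingSubgroup hr).trans CfsgLib.fittingSubgroup_le_generalized)

omit [Finite G] in
theorem EE_le_GG (A : Subgroup G) : EE A ≤ GG A := Subgroup.map_mono CfsgLib.layer_le_generalized

theorem OO_isPGroup (r : ℕ) (A : Subgroup G) : IsPGroup r (OO r A) := (CfsgLib.isPGroup_pCore r).map _

theorem conj_OO {r : ℕ} {A : Subgroup G} {a x : G} (ha : a ∈ A) (hx : x ∈ OO r A) : a * x * a⁻¹ ∈ OO r A := by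
  haveI : (Cfsg.pCore r A).Normal := by infer_instance
  exact conj_mem_map _ ha hx

/-- A subgroup normalized by two distinct maximal subgroups is trivial. -/
theorem eq_bot_of_two [IsSimpleGroup G] {M N : Subgroup G} (hM : IsCoatom M) (hN : IsCoatom N) (hne : M ≠ N)
    {W : Subgroup G} (hWM : W ≤ M) (h1 : ∀ a ∈ M, ∀ w ∈ W, a * w * a⁻¹ ∈ W)
    (h2 : ∀ a ∈ N, ∀ w ∈ W, a * w * a⁻¹ ∈ W) : W = ⊥ := by
  have hle : M ⊔ N ≤ Subgroup.normalizer (W : Set G) := sup_le
    (fun a ha => Subgroup.mem_normalizer_fintype fun w hw => h1 a ha w hw)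
    (fun a ha => Subgroup.mem_normalizer_fintype fun w hw => h2 a ha w hw)
  have hlt : M < M ⊔ N := lt_of_le_of_ne le_sup_left fun e => hne (by
    have hNM : N ≤ M := e.symm ▸ le_sup_right
    rcases eq_or_lt_of_le hNM with h | h
    · exact h.symm
    · exact absurd (hN.2 _ h) hM.1)
  rw [hM.2 _ hlt, top_le_iff] at hle
  haveI : W.Normal := Subgroup.normalizer_eq_top_iff.1 hle
  exact (inferInstance : W.Normal).eq_bot_or_eq_top.resolve_right fun h => hM.1 (top_le_iff.1 (h ▸ hWM))

theorem isSolvable_of_isPGroup {K : Type*} [Group K] [Finite K] {r : ℕ} [Fact r.Prime] (h : IsPGroup r K) :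
    Group.IsSolvable K := by
  haveI := h.isNilpotent
  infer_instance

/-- The facts given by the lemma on cores, for an overgroup of the whole `F*(A)`. -/
theorem facts [IsSimpleGroup G] (hna : ¬ IsMulCommutative G) {A B : Subgroup G} (hA : IsCoatom A)
    (hB : GG A ≤ B) (hA' : GG B ≤ A) :
    (∀ r, r.Prime → ¬ r ∣ Nat.card (Cfsg.fittingSubgroup A) → OO r B = ⊥) ∧
      (∀ r, r.Prime → ∀ x ∈ OO r B, ∀ e ∈ EE A, x * e = e * x) ∧
      (∀ r, r.Prime → ∀ x ∈ OO r B, ∀ s, s.Prime → s ≠ r → ∀ y ∈ OO s A, x * y = y * x) := by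
  have hsn : ((GG A).subgroupOf (GG A)).IsSubnormal := by
    rw [Subgroup.subgroupOf_self]; exact Subgroup.IsSubnormal.top
  obtain ⟨ha, hb⟩ := main hna hA (GG A) le_rfl hsn inf_le_left B hB
  have h0 : ∀ r, r.Prime → ¬ r ∣ Nat.card (Cfsg.fittingSubgroup A) → OO r B = ⊥ := fun r hr hd => by
    have h : OO r B ⊓ A = ⊥ := ha r hr hd
    rwa [inf_eq_left.2 ((OO_le_GG hr B).trans hA')] at h
  refine ⟨h0, fun r hr x hx e he => ?_, fun r hr x hx s hs hsr y hy => ?_⟩
  · by_cases hd : r ∣ Nat.card (Cfsg.fittingSubgroup A)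
    · obtain ⟨y, hy, rfl⟩ := he
      haveI := Fact.mk hr
      set GF := Cfsg.generalizedFittingSubgroup A
      set R := Cfsg.pResidual r GF
      haveI : R.Normal := by infer_instance
      have hq := CfsgLib.Transfer.isPGroup_quotient_pResidual (G := GF) (p := r)
      obtain ⟨n, hn⟩ := (isSolvable_of_isPGroup hq).solvable
      have hlay : ∀ k : ℕ, (Cfsg.layer A).subgroupOf GF ≤ derivedSeries GF k := by
        intro k
        induction k with
        | zero => exact le_top
        | succ k ih =>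
          have e1 : ⁅(Cfsg.layer A).subgroupOf GF, (Cfsg.layer A).subgroupOf GF⁆ = (Cfsg.layer A).subgroupOf GF := by
            apply Subgroup.map_injective GF.subtype_injective
            rw [Subgroup.map_commutator, Subgroup.map_subgroupOf_eq_of_le CfsgLib.layer_le_generalized,
              CfsgLib.layer_commutator_self]
          rw [derivedSeries_succ, ← e1]
          exact Subgroup.commutator_mono ih ih
      have hyG : y ∈ GF := CfsgLib.layer_le_generalized hy
      have hyR : (⟨y, hyG⟩ : GF) ∈ R := by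
        have h1 := map_derivedSeries_le_derivedSeries (QuotientGroup.mk' R) n
          ⟨⟨y, hyG⟩, hlay n (show y ∈ Cfsg.layer A from hy), rfl⟩
        rw [hn, Subgroup.mem_bot] at h1
        exact (QuotientGroup.eq_one_iff _).1 h1
      exact hb r hr hd x hx y ⟨⟨y, hyG⟩, hyR, rfl⟩
    · rw [h0 r hr hd, Subgroup.mem_bot] at hx
      rw [hx, one_mul, mul_one]
  · by_cases hd : r ∣ Nat.card (Cfsg.fittingSubgroup A)
    · obtain ⟨y, hy, rfl⟩ := hy
      haveI := Fact.mk hs
      have hyG : y ∈ Cfsg.generalizedFittingSubgroup A :=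
        CfsgLib.fittingSubgroup_le_generalized (CfsgLib.pCore_le_fittingSubgroup hs hy)
      refine hb r hr hd x hx y ⟨⟨y, hyG⟩, CfsgLib.Transfer.mem_pResidual_of_coprime ?_, rfl⟩
      obtain ⟨k, hk⟩ := IsPGroup.iff_orderOf.1 (CfsgLib.isPGroup_pCore (G := A) s) ⟨y, hy⟩
      rw [Subgroup.orderOf_mk] at hk ⊢
      rw [hk]
      exact Nat.Coprime.pow_left _ ((Nat.coprime_primes hs hr).2 hsr)
    · rw [h0 r hr hd, Subgroup.mem_bot] at hx
      rw [hx, one_mul, mul_one]

theorem EE_le_EE [IsSimpleGroup G] (hna : ¬ IsMulCommutative G) {M N : Subgroup G} (hM : IsCoatom M)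
    (h1 : GG M ≤ N) (h2 : GG N ≤ M) : EE M ≤ EE N := by
  obtain ⟨-, hE, -⟩ := facts hna hM h1 h2
  have hEN : EE M ≤ N := (EE_le_GG M).trans h1
  have hEM : EE N ≤ M := (EE_le_GG N).trans h2
  rintro _ ⟨e, he, rfl⟩
  revert e
  suffices h : Cfsg.layer M ≤ (EE N).comap M.subtype from fun e he => h he
  refine sSup_le fun K hK => ?_
  set J : Subgroup M := N.comap M.subtype with hJ
  have hKJ : K ≤ J := fun k hk => hEN ⟨k, CfsgLib.le_layer hK hk, rfl⟩
  set E' : Subgroup J := ((EE N).comap M.subtype).subgroupOf J with hE'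
  haveI : E'.Normal := ⟨fun x hx g => conj_EE g.2 hx⟩
  rcases CfsgLib.component_le_or_commutator_eq_bot (CfsgLib.isComponent_subgroupOf hK hKJ) E' with h | h
  · exact fun k hk => h (show (⟨k, hKJ hk⟩ : J) ∈ K.subgroupOf J from hk)
  exfalso
  have hKN : K.map M.subtype ≤ N := by
    rintro _ ⟨k, hk, rfl⟩
    exact hKJ hk
  have hcent : ∀ k ∈ K, ∀ z ∈ GG N, z * (k : G) = k * z := by
    intro k hk
    have hle : GG N ≤ Subgroup.centralizer ({(k : G)} : Set G) := by
      have e0 : GG N = EE N ⊔ FF N := gfit_eq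
      rw [e0]
      refine sup_le (fun w hw => ?_) ?_
      · refine Subgroup.mem_centralizer_singleton_iff.2 ?_
        exact (congrArg (fun v : J => ((v : M) : G)) (CfsgLib.Comp.comm_of_commutator_eq_bot h
          (show (⟨k, hKJ hk⟩ : J) ∈ K.subgroupOf J from hk)
          (show (⟨⟨w, hEM hw⟩, hEN' hw⟩ : J) ∈ E' from hw))).symm
      · rw [FF, CfsgLib.fittingSubgroup_eq_iSup_pCore, Subgroup.map_iSup]
        refine iSup_le fun r => ?_
        intro w hw
        exact Subgroup.mem_centralizer_singleton_iff.2 (hE r r.2 w hw k ⟨k, CfsgLib.le_layer hK hk, rfl⟩)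
    exact fun z hz => Subgroup.mem_centralizer_singleton_iff.1 (hle hz)
  have hKF : K.map M.subtype ≤ GG N ⊓ Subgroup.centralizer (GG N : Set G) := by
    rintro _ ⟨k, hk, rfl⟩
    refine ⟨⟨⟨k, hKJ hk⟩, CfsgLib.centralizer_generalizedFitting_le (fun w hw => Subtype.ext ?_), rfl⟩,
      hcent k hk⟩
    exact hcent k hk _ ⟨w, hw, rfl⟩
  have hab : ∀ a ∈ K, ∀ b ∈ K, a * b = b * a := fun a ha b hb =>
    Subtype.ext (hcent b hb _ (hKF ⟨a, ha, rfl⟩).1)
  haveI : Group.IsNilpotent K := CfsgLib.Comp.nilpotent_of_comm hab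
  exact CfsgLib.isQuasisimple_not_isSolvable hK.2 inferInstance
where
  hEN' {N : Subgroup G} {w : G} (hw : w ∈ EE N) : w ∈ N := EE_le hw

/-- The `p`-elements of `A` centralizing all `O_r(A)`, `r ≠ p`. -/
noncomputable def WW (p : ℕ) (A : Subgroup G) : Subgroup G :=
  Subgroup.closure {x | x ∈ A ∧ (∃ k, orderOf x = p ^ k) ∧
    ∀ r, r.Prime → r ≠ p → ∀ y ∈ OO r A, x * y = y * x}

theorem WW_le_WW [IsSimpleGroup G] (hna : ¬ IsMulCommutative G) {M N : Subgroup G} (hM : IsCoatom M)
    (hN : IsCoatom N) (h1 : GG M ≤ N) (h2 : GG N ≤ M) (hEM : EE M = ⊥) {p q : ℕ} (hp : p.Prime) (hq : q.Prime)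
    (hqp : q ≠ p) (hqN : q ∣ Nat.card (Cfsg.fittingSubgroup N)) : WW p M ≤ WW p N := by
  obtain ⟨-, -, hcross⟩ := facts hna hM h1 h2
  refine (Subgroup.closure_le _).2 ?_
  rintro x ⟨hxM, ⟨kx, hkx⟩, hxc⟩
  haveI := Fact.mk hp
  have hcomm : ∀ r, r.Prime → r ≠ p → ∀ u ∈ OO r N, x * u = u * x := by
    intro r hr hrp u hu
    haveI := Fact.mk hr
    have huM : u ∈ M := h2 (OO_le_GG hr N hu)
    set c := x * u * x⁻¹ * u⁻¹ with hc
    have hcM : c ∈ M := M.mul_mem (M.mul_mem (M.mul_mem hxM huM) (M.inv_mem hxM)) (M.inv_mem huM)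
    -- `c` centralizes `F*(M)`
    have hcs : ∀ s, s.Prime → ∀ y ∈ OO s M, c * y = y * c := by
      intro s hs y hy
      by_cases hsp : s = p
      · subst hsp
        have hu' : ∀ w ∈ OO s M, Commute u w := fun w hw => hcross r hr u hu s hs (Ne.symm hrp) w hw
        have hy' : x⁻¹ * y * x ∈ OO s M := by
          have := conj_OO (M.inv_mem hxM) hy
          rwa [inv_inv] at this
        calc c * y = x * u * x⁻¹ * (u⁻¹ * y) := by rw [hc]; group
          _ = x * u * x⁻¹ * (y * u⁻¹) := by rw [(hu' y hy).inv_left.eq]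
          _ = x * (u * (x⁻¹ * y * x)) * x⁻¹ * u⁻¹ := by group
          _ = x * ((x⁻¹ * y * x) * u) * x⁻¹ * u⁻¹ := by rw [(hu' _ hy').eq]
          _ = y * c := by rw [hc]; group
      · have hx' : ∀ w ∈ OO s M, Commute x w := fun w hw => hxc s hs hsp w hw
        have hy' : u⁻¹ * y * u ∈ OO s M := by
          have := conj_OO (M.inv_mem huM) hy
          rwa [inv_inv] at this
        calc c * y = x * u * (x⁻¹ * (u⁻¹ * y * u)) * u⁻¹ := by rw [hc]; group
          _ = x * u * ((u⁻¹ * y * u) * x⁻¹) * u⁻¹ := by rw [(hx' _ hy').inv_left.eq]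
          _ = (x * y) * (u * x⁻¹ * u⁻¹) := by group
          _ = (y * x) * (u * x⁻¹ * u⁻¹) := by rw [(hx' y hy).eq]
          _ = y * c := by rw [hc]; group
    have hcF : c ∈ FF M := by
      have hle : GG M ≤ Subgroup.centralizer ({c} : Set G) := by
        have e0 : GG M = EE M ⊔ FF M := gfit_eq
        rw [e0, hEM, bot_sup_eq, FF, CfsgLib.fittingSubgroup_eq_iSup_pCore, Subgroup.map_iSup]
        exact iSup_le fun s w hw => Subgroup.mem_centralizer_singleton_iff.2 (hcs s s.2 w hw).symm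
      have h := CfsgLib.centralizer_generalizedFitting_le (G := M)
        (show (⟨c, hcM⟩ : M) ∈ Subgroup.centralizer _ from
          fun w hw => Subtype.ext (Subgroup.mem_centralizer_singleton_iff.1 (hle ⟨w, hw, rfl⟩)))
      have h' : c ∈ GG M := ⟨_, h, rfl⟩
      have e0 : GG M = EE M ⊔ FF M := gfit_eq
      rwa [e0, hEM, bot_sup_eq] at h'
    -- its part away from `r` vanishes
    set N' := Cfsg.pPrimeCore r M ⊓ Cfsg.fittingSubgroup M with hN'
    haveI : N'.Normal := Subgroup.normal_inf_normal _ _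
    have hsplit : Cfsg.fittingSubgroup M ≤ Cfsg.pCore r M ⊔ N' := by
      rw [CfsgLib.fittingSubgroup_eq_iSup_pCore]
      refine iSup_le fun s => ?_
      rcases eq_or_ne r (s : ℕ) with e | e
      · rw [← e]; exact le_sup_left
      · refine le_sup_of_le_right (le_inf ?_ (CfsgLib.pCore_le_fittingSubgroup s.2))
        haveI := Fact.mk s.2
        obtain ⟨k, hk⟩ := (CfsgLib.isPGroup_pCore (G := M) (s : ℕ)).exists_card_eq
        exact CfsgLib.le_pPrimeCore (by
          rw [hk]; exact Nat.Coprime.pow_left _ ((Nat.coprime_primes s.2 hr).2 (Ne.symm e)))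
    obtain ⟨c₀, hc₀, hc₀'⟩ := hcF
    obtain ⟨a, ha, b, hb, hab⟩ := Subgroup.mem_sup_of_normal_left.1 (hsplit hc₀)
    have hbr : (orderOf b).Coprime r := by
      refine (CfsgLib.card_pPrimeCore_coprime (G := M) r).coprime_dvd_left ?_
      rw [← Subgroup.orderOf_mk b hb.1]; exact orderOf_dvd_natCard _
    let U : Subgroup M := Subgroup.zpowers ⟨u, huM⟩ ⊔ Cfsg.pCore r M
    have hU : IsPGroup r U := by
      haveI : (Cfsg.pCore r M).Normal := by infer_instance
      refine IsPGroup.to_sup_of_normal_right ?_ (CfsgLib.isPGroup_pCore r)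
      obtain ⟨k, hk⟩ := IsPGroup.iff_orderOf.1 (OO_isPGroup r N) ⟨u, hu⟩
      rw [Subgroup.orderOf_mk] at hk
      refine IsPGroup.of_card (n := k) ?_
      rw [Nat.card_zpowers, ← hk, ← Subgroup.orderOf_coe]
    set xM : M := ⟨x, hxM⟩
    set uM : M := ⟨u, huM⟩
    have hxu : xM * uM * xM⁻¹ = a * b * uM := by
      rw [hab]
      apply Subtype.ext
      show x * u * x⁻¹ = (c₀ : G) * u
      rw [show (c₀ : G) = c from hc₀', hc]; group
    have hbu : Commute b uM := by
      have hle : N' ≤ Subgroup.centralizer ({uM} : Set M) := by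
          have hgen : N' ≤ ⨆ s : {s : Nat.Primes // (s : ℕ) ≠ r}, Cfsg.pCore (s.1 : ℕ) M := by
            haveI : Group.IsNilpotent N' := Group.nilpotent_of_mulEquiv
              (G := N'.subgroupOf (Cfsg.fittingSubgroup M)) (Subgroup.subgroupOfEquivOfLe inf_le_right)
              (_h := by haveI := CfsgLib.isNilpotent_fittingSubgroup (G := M); infer_instance)
            have h := CfsgLib.le_fittingSubgroup (G := N') (N := (⊤ : Subgroup N')) (Group.isNilpotent_top.2 ‹_›)
            rw [CfsgLib.fittingSubgroup_eq_iSup_pCore] at h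
            have h2 := Subgroup.map_mono (f := N'.subtype) h
            rw [← MonoidHom.range_eq_map, Subgroup.range_subtype, Subgroup.map_iSup] at h2
            refine h2.trans (iSup_le fun s => ?_)
            by_cases hsr : (s : ℕ) = r
            · haveI := Fact.mk s.2
              obtain ⟨k, hk⟩ := ((CfsgLib.isPGroup_pCore (G := N') (s : ℕ))).exists_card_eq
              have h1 : (Cfsg.pCore (s : ℕ) N') = ⊥ := by
                refine Subgroup.eq_bot_of_card_eq _ (Nat.eq_one_of_dvd_coprimes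
                  ((CfsgLib.card_pPrimeCore_coprime (G := M) r).pow_right k) ?_ ?_)
                · exact (Subgroup.card_subgroup_dvd_card _).trans (Subgroup.card_dvd_of_le inf_le_left)
                · rw [hk, hsr]
              rw [h1, Subgroup.map_bot]; exact bot_le
            · exact (CfsgLib.map_pCore_le (s : ℕ) N').trans
                (le_iSup (fun s : {s : Nat.Primes // (s : ℕ) ≠ r} => Cfsg.pCore (s.1 : ℕ) M) ⟨s, hsr⟩)
          have hfin : (⨆ s : {s : Nat.Primes // (s : ℕ) ≠ r}, Cfsg.pCore (s.1 : ℕ) M) ≤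
              Subgroup.centralizer ({uM} : Set M) := iSup_le fun s y hy =>
            Subgroup.mem_centralizer_singleton_iff.2
              (Subtype.ext (hcross r hr u hu s.1 s.1.2 s.2 y ⟨y, hy, rfl⟩).symm)
          exact hgen.trans hfin
      exact Subgroup.mem_centralizer_singleton_iff.1 (hle hb)
    have hb1 : b = 1 := by
      have hw : a * uM ∈ U :=
        U.mul_mem (Subgroup.mem_sup_right ha) (Subgroup.mem_sup_left (Subgroup.mem_zpowers _))
      have hba : Commute b a := by
        refine (Subgroup.commute_of_normal_of_disjoint _ _ inferInstance inferInstance ?_ a b ha hb.1).symm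
        rw [disjoint_iff]
        refine Subgroup.inf_eq_bot_of_coprime ?_
        obtain ⟨k, hk⟩ := (CfsgLib.isPGroup_pCore (G := M) r).exists_card_eq
        rw [hk]
        exact Nat.Coprime.pow_left _ (CfsgLib.card_pPrimeCore_coprime (G := M) r).symm
      obtain ⟨k1, hk1⟩ := hU ⟨_, hw⟩
      obtain ⟨k2, hk2⟩ := IsPGroup.iff_orderOf.1 (OO_isPGroup r N) ⟨u, hu⟩
      rw [Subgroup.orderOf_mk] at hk2
      have hord : (xM * uM * xM⁻¹) ^ r ^ (k1 + k2) = 1 := by
        rw [conj_pow, pow_add, mul_comm, pow_mul,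
          show uM ^ r ^ k2 = 1 from Subtype.ext (by show u ^ r ^ k2 = 1; rw [← hk2, pow_orderOf_eq_one]),
          one_pow, mul_one, mul_inv_cancel]
      have hord2 : (a * uM) ^ r ^ (k1 + k2) = 1 := by
        rw [pow_add, pow_mul, show (a * uM) ^ r ^ k1 = 1 from congrArg Subtype.val hk1, one_pow]
      rw [hxu, show a * b * uM = (a * uM) * b by rw [mul_assoc, hbu.eq, mul_assoc],
        ((hba.mul_right hbu).symm).mul_pow, hord2, one_mul] at hord
      exact orderOf_eq_one_iff.1 (Nat.eq_one_of_dvd_coprimes (hbr.pow_right (k1 + k2)) dvd_rfl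
        (orderOf_dvd_of_pow_eq_one hord))
    have hcr : c ∈ OO r M := ⟨a, ha, by rw [← hc₀', ← hab, hb1, mul_one]⟩
    have hxcc : Commute x c := hxc r hr hrp c hcr
    have hpow : ∀ k : ℕ, x ^ k * u * (x ^ k)⁻¹ = c ^ k * u := by
      intro k
      induction k with
      | zero => simp
      | succ k ih =>
        calc x ^ (k + 1) * u * (x ^ (k + 1))⁻¹ = x * (x ^ k * u * (x ^ k)⁻¹) * x⁻¹ := by rw [pow_succ']; group
          _ = (x * c ^ k) * u * x⁻¹ := by rw [ih]; group
          _ = c ^ k * (x * u * x⁻¹) := by rw [(hxcc.pow_right k).eq]; group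
          _ = c ^ (k + 1) * u := by rw [pow_succ, hc]; group
    have h3 : c ^ orderOf x = 1 := by
      have := hpow (orderOf x)
      rw [pow_orderOf_eq_one, inv_one, one_mul, mul_one] at this
      exact mul_eq_right.1 this.symm
    obtain ⟨kc, hkc⟩ := IsPGroup.iff_orderOf.1 (OO_isPGroup r M) ⟨c, hcr⟩
    rw [Subgroup.orderOf_mk] at hkc
    have hc1 : c = 1 := eq_one_of_coprime_pows h3 (pow_orderOf_eq_one c) (by
      rw [hkc, hkx]; exact Nat.coprime_pow_primes kx kc hp hr (Ne.symm hrp))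
    exact mul_inv_eq_iff_eq_mul.1 (mul_inv_eq_one.1 hc1)
  refine Subgroup.subset_closure ⟨?_, ⟨kx, hkx⟩, hcomm⟩
  -- `x` lies in `N`
  haveI := Fact.mk hq
  set Z := ((Subgroup.center (Cfsg.pCore q N)).map (Cfsg.pCore q N).subtype).map N.subtype with hZ
  obtain ⟨hZO, hZN⟩ := center_map_props (Cfsg.pCore q N)
  have hZO' : Z ≤ OO q N := Subgroup.map_mono (Subgroup.map_subtype_le _)
  have hOne : Cfsg.pCore q N ≠ ⊥ := fun h => CfsgLib.not_dvd_card_fitting_of_pCore_eq_bot h hqN
  have hZne : Z ≠ ⊥ := by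
    rw [hZ, Ne, Subgroup.map_eq_bot_iff_of_injective _ N.subtype_injective,
      Subgroup.map_eq_bot_iff_of_injective _ (Subgroup.subtype_injective _)]
    haveI : Nontrivial (Cfsg.pCore q N) := (Subgroup.nontrivial_iff_ne_bot _).2 hOne
    haveI := (CfsgLib.isPGroup_pCore (G := N) q).center_nontrivial
    exact (Subgroup.nontrivial_iff_ne_bot _).1 inferInstance
  rw [← normalizer_eq_of_coatom hna hN hZne (fun a ha b hb => hZO a ha b (hZO' hb)) hZN]
  exact Subgroup.centralizer_le_normalizer _ fun z hz => (hcomm q hq hqp z (hZO' hz)).symm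

theorem bender_max [IsSimpleGroup G] (hna : ¬ IsMulCommutative G) (M N : Subgroup G) (hM : IsCoatom M)
    (hN : IsCoatom N) (hMN : M ≠ N) (h1 : GG M ≤ N) (h2 : GG N ≤ M) :
    ∃ p : ℕ, p.Prime ∧ IsPGroup p ↥(Cfsg.generalizedFittingSubgroup ↥M) ∧
      IsPGroup p ↥(Cfsg.generalizedFittingSubgroup ↥N) := by
  have hEeq : EE M = EE N := le_antisymm (EE_le_EE hna hM h1 h2) (EE_le_EE hna hN h2 h1)
  have hEM : EE M = ⊥ := eq_bot_of_two hM hN hMN EE_le (fun a ha w hw => conj_EE ha hw)
    (fun a ha w hw => by rw [hEeq] at hw ⊢; exact conj_EE ha hw)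
  have hEN : EE N = ⊥ := hEeq ▸ hEM
  have hgf : ∀ A : Subgroup G, EE A = ⊥ → Cfsg.generalizedFittingSubgroup A = Cfsg.fittingSubgroup A := by
    intro A h
    rw [EE, Subgroup.map_eq_bot_iff_of_injective _ A.subtype_injective] at h
    rw [Cfsg.generalizedFittingSubgroup, h, bot_sup_eq]
  have hsame : ∀ {A B : Subgroup G}, IsCoatom A → GG A ≤ B → GG B ≤ A →
      ∀ r, r.Prime → r ∣ Nat.card (Cfsg.fittingSubgroup B) → r ∣ Nat.card (Cfsg.fittingSubgroup A) := by
    intro A B hA hAB hBA r hr hd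
    haveI := Fact.mk hr
    by_contra h
    have h0 := (facts hna hA hAB hBA).1 r hr h
    rw [OO, Subgroup.map_eq_bot_iff_of_injective _ B.subtype_injective] at h0
    exact CfsgLib.not_dvd_card_fitting_of_pCore_eq_bot h0 hd
  have hF : Nat.card (Cfsg.fittingSubgroup M) ≠ 1 := by
    intro h
    have hb : Cfsg.generalizedFittingSubgroup M = ⊥ := (hgf M hEM).trans (Subgroup.eq_bot_of_card_eq _ h)
    have hc := CfsgLib.centralizer_generalizedFitting_le (G := M)
    rw [hb] at hc
    have hM0 : M = ⊥ := by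
      rw [eq_bot_iff]
      intro x hx
      have h3 : (⟨x, hx⟩ : M) ∈ (⊥ : Subgroup M) := hc (fun w hw => by
        rw [SetLike.mem_coe, Subgroup.mem_bot] at hw; simp [hw])
      exact congrArg Subtype.val (Subgroup.mem_bot.1 h3)
    rcases eq_or_ne N ⊥ with h0 | h0
    · exact hMN (hM0.trans h0.symm)
    · exact hN.1 (hM.2 N (hM0 ▸ bot_lt_iff_ne_bot.2 h0))
  obtain ⟨p, hp, hpM⟩ := Nat.exists_prime_and_dvd hF
  haveI := Fact.mk hp
  have honly : ∀ q, q.Prime → q ∣ Nat.card (Cfsg.fittingSubgroup M) → q = p := by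
    intro q hq hqM
    by_contra hqp
    have hqN := hsame hN h2 h1 q hq hqM
    have hW : WW p M = WW p N := le_antisymm (WW_le_WW hna hM hN h1 h2 hEM hp hq hqp hqN)
      (WW_le_WW hna hN hM h2 h1 hEN hp hq hqp hqM)
    have hnorm : ∀ (A : Subgroup G), ∀ a ∈ A, ∀ w ∈ WW p A, a * w * a⁻¹ ∈ WW p A := by
      intro A a ha
      suffices h : WW p A ≤ (WW p A).comap (MulAut.conj a).toMonoidHom from fun w hw => h hw
      refine (Subgroup.closure_le _).2 ?_
      rintro w ⟨hwA, ⟨k, hk⟩, hwc⟩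
      refine Subgroup.subset_closure ⟨A.mul_mem (A.mul_mem ha hwA) (A.inv_mem ha), ⟨k, ?_⟩, fun r hr hrp y hy => ?_⟩
      · exact (orderOf_injective (MulAut.conj a).toMonoidHom (MulAut.conj a).injective w).trans hk
      · have hy' : a⁻¹ * y * a ∈ OO r A := by
          have := conj_OO (A.inv_mem ha) hy
          rwa [inv_inv] at this
        have h := hwc r hr hrp _ hy'
        show a * w * a⁻¹ * y = y * (a * w * a⁻¹)
        calc a * w * a⁻¹ * y = a * (w * (a⁻¹ * y * a)) * a⁻¹ := by group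
          _ = a * ((a⁻¹ * y * a) * w) * a⁻¹ := by rw [h]
          _ = y * (a * w * a⁻¹) := by group
    have hle : WW p M ≤ M := (Subgroup.closure_le _).2 fun w hw => hw.1
    have hW0 := eq_bot_of_two hM hN hMN hle (hnorm M) (fun a ha w hw => by
      rw [hW] at hw ⊢; exact hnorm N a ha w hw)
    have hOW : OO p M ≤ WW p M := by
      intro y hy
      obtain ⟨k, hk⟩ := IsPGroup.iff_orderOf.1 (OO_isPGroup p M) ⟨y, hy⟩
      rw [Subgroup.orderOf_mk] at hk
      obtain ⟨y, hy', rfl⟩ := hy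
      refine Subgroup.subset_closure ⟨y.2, ⟨k, hk⟩, fun r hr hrp w hw => ?_⟩
      obtain ⟨w, hw', rfl⟩ := hw
      haveI := Fact.mk hr
      refine congrArg M.subtype (Subgroup.commute_of_normal_of_disjoint _ _ inferInstance inferInstance
        (IsPGroup.disjoint_of_coprime (CfsgLib.isPGroup_pCore p) (CfsgLib.isPGroup_pCore r)
          ((Nat.coprime_primes hp hr).2 (Ne.symm hrp))) y w hy' hw')
    rw [hW0, le_bot_iff, OO, Subgroup.map_eq_bot_iff_of_injective _ M.subtype_injective] at hOW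
    exact CfsgLib.not_dvd_card_fitting_of_pCore_eq_bot hOW hpM
  refine ⟨p, hp, ?_, ?_⟩
  · rw [hgf M hEM]
    exact IsPGroup.of_card (n := (Nat.card (Cfsg.fittingSubgroup M)).primeFactorsList.length)
      (Nat.eq_prime_pow_of_unique_prime_dvd (Nat.card_pos.ne') fun hd hdd => honly _ hd hdd)
  · rw [hgf N hEN]
    exact IsPGroup.of_card (n := (Nat.card (Cfsg.fittingSubgroup N)).primeFactorsList.length)
      (Nat.eq_prime_pow_of_unique_prime_dvd (Nat.card_pos.ne') fun hd hdd =>
        honly _ hd (hsame hM h1 h2 _ hd hdd))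

end CfsgLib.BenderMax
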